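/-
The fixed elements form a strongly `p`-embedded subgroup of `M`.
-/
import Cfsg.Agent.Lib.Chev.Overgroup.Coset

set_option autoImplicit false
set_option linter.unusedSectionVars false
set_option linter.style.haveILetI false

namespace CfsgLib.Chev.Over

open Cfsg.Lie CfsgLib.Chev.FixedPoints

universe v

section Generic

variable {G : Type*} [Group G] {p : ℕ} [Fact p.Prime]

/-- A proper subgroup of a `p`-group grows in its normaliser. -/
theorem exists_normalizing [Finite G] {R Q : Subgroup G} (hQ : IsPGroup p Q) (hle : R ≤ Q) (hne : R ≠ Q) :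
    ∃ y ∈ Q, y ∉ R ∧ y ∈ Subgroup.normalizer (R : Set G) := by
  haveI : Group.IsNilpotent ↥Q := hQ.isNilpotent
  have hlt : R.subgroupOf Q < ⊤ := lt_top_iff_ne_top.2 fun h => hne (le_antisymm hle (Subgroup.subgroupOf_eq_top.1 h))
  obtain ⟨y, hy, hyR⟩ := SetLike.exists_of_lt (normalizerCondition_of_isNilpotent _ hlt)
  refine ⟨y.1, y.2, hyR, Subgroup.mem_normalizer_iff.2 fun z => ?_⟩
  have key := Subgroup.mem_normalizer_iff.1 hy
  refine ⟨fun hz => ?_, fun hz => ?_⟩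
  · exact (key ⟨z, hle hz⟩).1 hz
  · have hzQ : z ∈ Q := by
      have := Q.mul_mem (Q.mul_mem (Q.inv_mem y.2) (hle hz)) y.2
      rwa [show (y : G)⁻¹ * ((y : G) * z * (y : G)⁻¹) * (y : G) = z by group] at this
    exact (key ⟨z, hzQ⟩).2 hz

/-- Normalisers of nontrivial `p`-subgroups of `H` lying in `H`, conjugation cannot bring a nontrivial `p`-element
of `H` back into `H`. -/
theorem embedded [Finite G] {H : Subgroup G}
    (hN : ∀ R : Subgroup G, IsPGroup p R → R ≠ ⊥ → R ≤ H → Subgroup.normalizer (R : Set G) ≤ H)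
    (hH : ∃ S : Sylow p G, (S : Subgroup G) ≤ H) {g x : G} (hxH : x ∈ H) (hx : x ^ p = 1) (hx1 : x ≠ 1)
    (hgx : g * x * g⁻¹ ∈ H) : g ∈ H := by
  classical
  set y := g * x * g⁻¹ with hy
  set K := H ⊓ H.map (MulAut.conj g).toMonoidHom with hK
  have hyK : y ∈ K := ⟨hgx, ⟨x, hxH, rfl⟩⟩
  have hy1 : y ≠ 1 := fun h => hx1 (by rwa [hy, conj_eq_one_iff] at h)
  have hyp : y ^ p = 1 := by rw [hy, conj_pow, hx]; group
  have hZ : IsPGroup p (Subgroup.zpowers (⟨y, hyK⟩ : K)) := by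
    rintro ⟨z, i, rfl⟩
    refine ⟨1, Subtype.ext (Subtype.ext ?_)⟩
    simp only [pow_one, SubmonoidClass.coe_pow, SubgroupClass.coe_zpow, OneMemClass.coe_one]
    rw [← zpow_natCast, ← zpow_mul, mul_comm, zpow_mul, zpow_natCast, hyp, one_zpow]
  obtain ⟨R0, hR0⟩ := hZ.exists_le_sylow
  set R := (R0 : Subgroup K).map K.subtype with hR
  have hRK : R ≤ K := Subgroup.map_subtype_le _
  have hRp : IsPGroup p R := R0.isPGroup'.map _
  have hyR : y ∈ R := ⟨⟨y, hyK⟩, hR0 (Subgroup.mem_zpowers _), rfl⟩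
  have hRne : R ≠ ⊥ := fun h => hy1 (Subgroup.mem_bot.1 (h ▸ hyR))
  have hmax : ∀ Q : Subgroup G, IsPGroup p Q → R ≤ Q → Q ≤ K → Q = R := by
    intro Q hQ hRQ hQK
    refine le_antisymm (fun z hz => ?_) hRQ
    have hle : (R0 : Subgroup K) ≤ Q.subgroupOf K := fun w hw => hRQ ⟨w, hw, rfl⟩
    have := R0.is_maximal' (hQ.comap_of_injective K.subtype K.subtype_injective) hle
    exact ⟨⟨z, hQK hz⟩, this ▸ (show (⟨z, hQK hz⟩ : K) ∈ Q.subgroupOf K from hz), rfl⟩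
  have hNR : Subgroup.normalizer (R : Set G) ≤ K := by
    refine le_inf (hN R hRp hRne (hRK.trans inf_le_left)) fun m hm => ⟨g⁻¹ * m * g, ?_, by simp [mul_assoc]⟩
    refine hN (R.map (MulAut.conj g⁻¹).toMonoidHom) (hRp.map _) ?_ ?_ ?_
    · exact fun h => hRne ((Subgroup.map_eq_bot_iff_of_injective _ (MulAut.conj g⁻¹).injective).1 h)
    · rintro _ ⟨z, hz, rfl⟩
      obtain ⟨w, hw, rfl⟩ := (hRK hz).2
      simpa [mul_assoc] using hw
    · refine Subgroup.mem_normalizer_iff.2 fun z => ?_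
      have key := Subgroup.mem_normalizer_iff.1 hm (g * z * g⁻¹)
      have e : ∀ w : G, w ∈ R.map (MulAut.conj g⁻¹).toMonoidHom ↔ g * w * g⁻¹ ∈ R := fun w =>
        ⟨fun ⟨u, hu, hw⟩ => by rw [← hw]; simpa [mul_assoc] using hu,
          fun h => ⟨_, h, by simp [mul_assoc]⟩⟩
      rw [e, e, key, show g * (g⁻¹ * m * g * z * (g⁻¹ * m * g)⁻¹) * g⁻¹ = m * (g * z * g⁻¹) * m⁻¹ by group]
  obtain ⟨Q, hQ⟩ := hRp.exists_le_sylow
  have hRQ : R = (Q : Subgroup G) := by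
    by_contra hne
    obtain ⟨z, hzQ, hzR, hzN⟩ := exists_normalizing Q.isPGroup' hQ hne
    have he := hmax ((Q : Subgroup G) ⊓ Subgroup.normalizer (R : Set G)) (Q.isPGroup'.to_le inf_le_left)
      (le_inf hQ Subgroup.le_normalizer) (inf_le_right.trans hNR)
    have hz : z ∈ (Q : Subgroup G) ⊓ Subgroup.normalizer (R : Set G) := ⟨hzQ, hzN⟩
    exact hzR (he ▸ hz)
  have h1 : (Q : Subgroup G) ≤ H := hRQ ▸ hRK.trans inf_le_left
  set Q' : Sylow p G := g⁻¹ • Q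
  have h2 : (Q' : Subgroup G) ≤ H := by
    intro z hz
    obtain ⟨w, hw, rfl⟩ := hz
    obtain ⟨u, hu, rfl⟩ := (hRK (hRQ ▸ hw : w ∈ R)).2
    simpa [mul_assoc] using hu
  obtain ⟨c, hc⟩ := MulAction.exists_smul_eq ↥H (Q.subtype h1) (Q'.subtype h2)
  have h3 : (c : G) • Q = Q' := by
    refine Sylow.ext (SetLike.ext fun z => ?_)
    have hc' : ((c • Q.subtype h1 : Sylow p ↥H) : Subgroup ↥H) = (Q'.subtype h2 : Subgroup ↥H) :=
      congrArg (fun S : Sylow p ↥H => (S : Subgroup ↥H)) hc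
    constructor
    · rintro ⟨w, hw, rfl⟩
      have : (c * ⟨w, h1 hw⟩ * c⁻¹ : ↥H) ∈ (Q'.subtype h2 : Subgroup ↥H) := hc' ▸ ⟨⟨w, h1 hw⟩, hw, rfl⟩
      exact this
    · intro hz
      have : (⟨z, h2 hz⟩ : ↥H) ∈ ((c • Q.subtype h1 : Sylow p ↥H) : Subgroup ↥H) := hc' ▸ hz
      obtain ⟨w, hw, e⟩ := this
      exact ⟨w.1, hw, congrArg Subtype.val e⟩
  have h4 : (g * (c : G)) • Q = Q := by rw [mul_smul, h3, smul_inv_smul]
  have h5 : g * (c : G) ∈ H :=
    hN (Q : Subgroup G) Q.isPGroup' (hRQ ▸ hRne) h1 (Sylow.smul_eq_iff_mem_normalizer.1 h4)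
  have := H.mul_mem h5 (H.inv_mem c.2)
  rwa [mul_inv_cancel_right] at this

/-- A `p`-subgroup meeting `H` nontrivially lies in `H`. -/
theorem pgroup_le [Finite G] {H : Subgroup G}
    (hN : ∀ R : Subgroup G, IsPGroup p R → R ≠ ⊥ → R ≤ H → Subgroup.normalizer (R : Set G) ≤ H)
    {P : Subgroup G} (hP : IsPGroup p P) {x : G} (hxP : x ∈ P) (hxH : x ∈ H) (hx1 : x ≠ 1) : P ≤ H := by
  by_contra hne
  obtain ⟨y, hyP, hyR, hyN⟩ := exists_normalizing hP (R := P ⊓ H) inf_le_left fun e => hne (e ▸ inf_le_right)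
  exact hyR ⟨hyP, hN (P ⊓ H) (hP.to_le inf_le_left)
    (fun h => hx1 (Subgroup.mem_bot.1 (h ▸ (⟨hxP, hxH⟩ : x ∈ P ⊓ H)))) inf_le_right hyN⟩

end Generic

variable {D : ChevalleyDatum} {co : ℕ → ℕ → ℤ} {sp : Option (ℕ × ℕ)} {k : Type v} [Field k]
  (hF : Facts D co) (hC : CommF.{v} D) {φ : k →+* k} {p : ℕ} [Fact p.Prime] [CharP k p]
include hF hC

theorem pos_isPGroup : IsPGroup p (UP D k) :=
  (TopRoot.isPGroup_halfspace hF p hF.isWeight_omega).to_le
    (rootClosure_mono fun _ hr hp => hF.omega_pos hr hp)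

theorem mem_pos_of_pelement {g : GL D.Idx k} (hg : g ∈ D.borelSubgroup k) {s : ℕ} (hs : g ^ p ^ s = 1) :
    g ∈ UP D k := by
  obtain ⟨u, hu, h, hh, rfl⟩ := hF.mem_borel_iff.1 hg
  have key : ∀ n : ℕ, ∃ w ∈ UP D k, (u * h) ^ n = w * h ^ n := by
    intro n
    induction n with
    | zero => exact ⟨1, Subgroup.one_mem _, by simp⟩
    | succ n ih =>
      obtain ⟨w, hw, e⟩ := ih
      refine ⟨w * (h ^ n * u * (h ^ n)⁻¹), Subgroup.mul_mem _ hw ((Subgroup.mem_normalizer_iff.1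
        (hF.diagonal_le_normalizer _ (Subgroup.pow_mem _ hh n)) u).1 hu), ?_⟩
      rw [pow_succ, e, pow_succ]; group
  obtain ⟨w, hw, e⟩ := key (p ^ s)
  rw [hs] at e
  have h1 : h ^ p ^ s ∈ UP D k ⊓ D.diagonalSubgroup k :=
    ⟨by rw [eq_inv_of_mul_eq_one_right e.symm]; exact Subgroup.inv_mem _ hw, Subgroup.pow_mem _ hh _⟩
  have hh1 : h ^ p ^ s = 1 := Subgroup.mem_bot.1 (by rw [hF.pos_inf_diagonal (F := k)] at h1; exact h1)
  obtain ⟨c, rfl⟩ := hF.mem_diagonal_iff.1 hh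
  suffices hT D c = 1 by rwa [this, mul_one]
  set χ : ℕ → kˣ := fun r => ∏ i ∈ Finset.range D.rank, c i ^ D.cartan i r
  have hpow : ∀ n : ℕ, (hT D c) ^ n = dU D (fun r => χ r ^ n) := by
    intro n
    induction n with
    | zero => rw [pow_zero]; exact (dU_one.symm.trans (dU_congr fun r _ => (pow_zero _).symm))
    | succ n ih => rw [pow_succ, ih, hT, dU_mul]; exact dU_congr fun r _ => (pow_succ _ _).symm
  rw [hpow] at hh1
  rw [hT, ← dU_one]
  refine dU_congr fun r hr => Units.ext ?_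
  have h2 := congrFun (congrFun (congrArg (fun g : GL D.Idx k => (g : Matrix D.Idx D.Idx k)) hh1)
    (Sum.inr ⟨r, hr⟩)) (Sum.inr ⟨r, hr⟩)
  simp [dU_val, diagC, wt] at h2
  have h3 : ((χ r : k) - 1) ^ p ^ s = 0 := by rw [sub_pow_char_pow, h2, one_pow, sub_self]
  exact sub_eq_zero.1 ((pow_eq_zero_iff (pow_ne_zero _ (Fact.out (p := p.Prime)).ne_zero)).1 h3)

variable {M : Subgroup (GL D.Idx k)} [Finite M] (hM : Ov D φ M) (hcert : Cert D sp)
  (hZ : ∀ v ∈ M, v ∈ rootClosure D k (CenR D sp k) → v ∈ fixG D φ) (hP : Radical.PairCert D co)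
include hM hcert hZ hP

omit hP in
/-- The positive elements of `M` form a Sylow subgroup contained in the fixed elements. -/
theorem exists_sylow_pos : ∃ S : Sylow p ↥M, (S : Subgroup ↥M) = (UP D k).subgroupOf M ∧
    (S : Subgroup ↥M) ≤ (fixG D φ).subgroupOf M := by
  have hU : IsPGroup p ↥((UP D k).subgroupOf M) :=
    (pos_isPGroup hF hC).comap_of_injective M.subtype M.subtype_injective
  have hfix : (UP D k).subgroupOf M ≤ (fixG D φ).subgroupOf M :=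
    fun x hx => pos_fixed hF hC hM hcert hZ x.2 hx
  refine ⟨⟨_, hU, fun {Q} hQ hle => ?_⟩, rfl, hfix⟩
  by_contra hne
  obtain ⟨y, hyQ, hyU, hyN⟩ := exists_normalizing hQ hle (Ne.symm hne)
  obtain ⟨s, hs⟩ := hQ ⟨y, hyQ⟩
  refine hyU (mem_pos_of_pelement hF hC (p := p) (s := s) (mem_borel_of_conj hF hC (hM.le y.2) fun i => ?_) ?_)
  · have hp := hF.simple_lt i.val i.isLt
    exact hF.pos_le_borel ((Subgroup.mem_normalizer_iff.1 hyN ⟨_, gen_one hF hM hp.2⟩).1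
      (xU_mem_rootClosure hp.2 hp.1 _))
  · have := congrArg (fun z : Q => ((z : ↥M) : GL D.Idx k)) hs
    simpa using this

/-- The normaliser in `M` of a nontrivial fixed `p`-subgroup consists of fixed elements. -/
theorem pnormalizer_fixed {R : Subgroup ↥M} (hRp : IsPGroup p R) (hne : R ≠ ⊥)
    (hR : R ≤ (fixG D φ).subgroupOf M) :
    Subgroup.normalizer (R : Set ↥M) ≤ (fixG D φ).subgroupOf M := by
  set H := (fixG D φ).subgroupOf M
  obtain ⟨S, hS, hSH⟩ := exists_sylow_pos hF hC hM hcert hZ (p := p)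
  obtain ⟨T, hT⟩ := (hRp.comap_of_injective H.subtype H.subtype_injective).exists_le_sylow
  obtain ⟨c, hc⟩ := MulAction.exists_smul_eq ↥H T (S.subtype hSH)
  intro m hm
  -- move `R` into the positive elements
  set R' : Subgroup (GL D.Idx k) := (R.map (MulAut.conj (c : ↥M)).toMonoidHom).map M.subtype with hR'
  have hU : ∀ y ∈ R, (((c : ↥M) * y * (c : ↥M)⁻¹ : ↥M) : GL D.Idx k) ∈ UP D k := by
    intro y hy
    have h1 : (⟨y, hR hy⟩ : ↥H) ∈ (T : Subgroup ↥H) := hT hy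
    have h2 : c * ⟨y, hR hy⟩ * c⁻¹ ∈ ((S.subtype hSH : Sylow p ↥H) : Subgroup ↥H) :=
      hc ▸ ⟨_, h1, rfl⟩
    have h3 : ((c : ↥M) * y * (c : ↥M)⁻¹) ∈ (S : Subgroup ↥M) := h2
    rw [hS] at h3
    exact h3
  have hfix : ∀ z : ↥H, ((z : ↥M) : GL D.Idx k) ∈ fixG D φ := fun z => z.2
  have h4 := normalizer_fixed hF hC hM hcert hZ hP (R := R') (fun h => hne ?_) ?_ ?_
    (m := (((c : ↥M) * m * (c : ↥M)⁻¹ : ↥M) : GL D.Idx k)) (SetLike.coe_mem _) ?_
  · have := Subgroup.mul_mem _ (Subgroup.mul_mem _ (Subgroup.inv_mem _ (hfix c)) h4) (hfix c)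
    simpa [H, Subgroup.mem_subgroupOf, mul_assoc] using this
  · rw [hR', Subgroup.map_eq_bot_iff_of_injective _ M.subtype_injective] at h
    exact (Subgroup.map_eq_bot_iff_of_injective _ (MulAut.conj (c : ↥M)).injective).1 h
  · rintro _ ⟨_, ⟨y, hy, rfl⟩, rfl⟩
    exact hU y hy
  · rintro _ ⟨_, ⟨y, hy, rfl⟩, rfl⟩
    exact Subgroup.mul_mem _ (Subgroup.mul_mem _ (hfix c) (hfix ⟨y, hR hy⟩)) (Subgroup.inv_mem _ (hfix c))
  · rintro _ ⟨_, ⟨y, hy, rfl⟩, rfl⟩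
    refine ⟨(c : ↥M) * (m⁻¹ * y * m) * (c : ↥M)⁻¹,
      ⟨_, (Subgroup.mem_normalizer_iff''.1 hm y).1 hy, rfl⟩, ?_⟩
    simp [mul_assoc]

/-- Conjugation brings no nontrivial fixed element of order `p` of `M` to a fixed one. -/
theorem fixed_of_conj {g x : GL D.Idx k} (hg : g ∈ M) (hxM : x ∈ M) (hxf : x ∈ fixG D φ)
    (hxp : x ^ p = 1) (hx1 : x ≠ 1) (hgx : g * x * g⁻¹ ∈ fixG D φ) : g ∈ fixG D φ := by
  obtain ⟨S, -, hSH⟩ := exists_sylow_pos hF hC hM hcert hZ (p := p)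
  exact embedded (G := ↥M) (H := (fixG D φ).subgroupOf M)
    (fun R hR hne hle => pnormalizer_fixed hF hC hM hcert hZ hP hR hne hle) ⟨S, hSH⟩
    (g := ⟨g, hg⟩) (x := ⟨x, hxM⟩) hxf (Subtype.ext hxp) (fun e => hx1 (congrArg Subtype.val e)) hgx

/-- A `p`-subgroup containing a nontrivial fixed element of `M` has only fixed elements in `M`. -/
theorem fixed_of_pgroup {P : Subgroup (GL D.Idx k)} (hPp : IsPGroup p P) {x y : GL D.Idx k}
    (hxP : x ∈ P) (hxM : x ∈ M) (hxf : x ∈ fixG D φ) (hx1 : x ≠ 1) (hyP : y ∈ P) (hyM : y ∈ M) :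
    y ∈ fixG D φ :=
  pgroup_le (G := ↥M) (H := (fixG D φ).subgroupOf M)
    (fun R hR hne hle => pnormalizer_fixed hF hC hM hcert hZ hP hR hne hle)
    (hPp.comap_of_injective M.subtype M.subtype_injective) (x := ⟨x, hxM⟩) hxP hxf
    (fun e => hx1 (congrArg Subtype.val e)) (show (⟨y, hyM⟩ : ↥M) ∈ P.subgroupOf M from hyP)

/-- An element of `M` commuting with a nontrivial fixed element of order `p` is fixed. -/
theorem fixed_of_commute {g x : GL D.Idx k} (hg : g ∈ M) (hxM : x ∈ M) (hxf : x ∈ fixG D φ)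
    (hxp : x ^ p = 1) (hx1 : x ≠ 1) (hgx : Commute g x) : g ∈ fixG D φ :=
  fixed_of_conj hF hC hM hcert hZ hP hg hxM hxf hxp hx1 (by rwa [hgx.eq, mul_inv_cancel_right])

end CfsgLib.Chev.Over
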