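/-
With only fixed root parameters the group `M` consists of fixed elements.
-/
import Cfsg.Agent.Lib.Chev.Overgroup.Embedded
import Cfsg.Agent.Lib.Transfer.DicksonFinite
import Cfsg.Agent.Lib.Chev.SL2
import Mathlib.FieldTheory.IntermediateField.Adjoin.Basic

set_option autoImplicit false
set_option linter.unusedSectionVars false
set_option linter.style.haveILetI false

namespace CfsgLib.Chev.Over

open Cfsg.Lie CfsgLib.Chev.FixedPoints
open scoped MatrixGroups

universe v

/-- Combinatorial facts on the highest root. -/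
structure TopCert (D : ChevalleyDatum) : Prop where
  pr : ∀ r < D.nroots, D.nroots / 2 ≤ r → prE D (D.nroots - 1) r = 0 ∨ prE D (D.nroots - 1) r = 1 ∨
    (prE D (D.nroots - 1) r = 2 ∧ r = D.nroots - 1)
  perp : ∀ r < D.nroots, D.nroots / 2 ≤ r → prE D (D.nroots - 1) r = 0 → D.commTerms (D.neg (D.nroots - 1)) r = []
  nu : ∃ j < D.rank, prE D (D.nroots - 1) (D.simple j) = 0
  invol : (∃ i j, i < D.rank ∧ j < D.rank ∧ i ≠ j ∧ D.commTerms (D.simple i) (D.simple j) = []) ∨
    ∃ (L : List ℕ) (j : ℕ), j < D.rank ∧ D.nroots - 1 ∈ L ∧ D.simple j ∉ L ∧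
      ∀ i < D.rank, ∀ r ∈ L, D.reflectRoot i r ∈ L

variable {D : ChevalleyDatum} {co : ℕ → ℕ → ℤ} {sp : Option (ℕ × ℕ)} {k : Type v} [Field k]

theorem xU_pow (hF : Facts D co) {r : ℕ} (hr : r < D.nroots) (t : k) :
    ∀ n : ℕ, (xU D r t : GL D.Idx k) ^ n = xU D r ((n : k) * t)
  | 0 => by rw [pow_zero, Nat.cast_zero, zero_mul, hF.xU_zero hr]
  | n + 1 => by rw [pow_succ, xU_pow hF hr t n, hF.xU_add hr, Nat.cast_succ]; ring_nf

/-- The lower and upper elements with parameters `1` and `t` generate a group containing `-1`. -/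
theorem neg_one_mem {F : Type v} [Field F] [Finite F] {p : ℕ} [Fact p.Prime] [CharP F p] (hp2 : p ≠ 2)
    (t : F) (ht : t ≠ 0) (hgen : Subfield.closure ({t} : Set F) = ⊤) :
    (-1 : SL(2, F)) ∈ Subgroup.closure ({Transfer.lowerU 1, Transfer.upperU t} : Set SL(2, F)) := by
  haveI : Fintype F := Fintype.ofFinite F
  rcases Transfer.dickson_finite (p := p) hp2 t ht hgen with ⟨h, -⟩ | ⟨-, -, h⟩
  · rw [h]; exact Subgroup.mem_top _
  · haveI : Fact (Nat.Prime 2) := ⟨Nat.prime_two⟩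
    obtain ⟨⟨g, hg⟩, ho⟩ := exists_prime_orderOf_dvd_card' 2
      (G := Subgroup.closure ({Transfer.lowerU 1, Transfer.upperU t} : Set SL(2, F))) (by rw [h]; norm_num)
    rw [orderOf_eq_prime_iff] at ho
    have hgg : g * g = 1 := by rw [← pow_two]; exact congrArg Subtype.val ho.1
    have hg1 : g ≠ 1 := fun e => ho.2 (Subtype.ext e)
    have h2 : (2 : F) ≠ 0 := fun h0 => hp2 (((Nat.prime_dvd_prime_iff_eq Fact.out Nat.prime_two).1
      ((CharP.cast_eq_zero_iff F p 2).1 (by exact_mod_cast h0))))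
    have hm : (g : Matrix (Fin 2) (Fin 2) F) * (g : Matrix (Fin 2) (Fin 2) F) = 1 := by
      rw [← Matrix.SpecialLinearGroup.coe_mul, hgg, Matrix.SpecialLinearGroup.coe_one]
    have e00 := congrFun (congrFun hm 0) 0
    have e01 := congrFun (congrFun hm 0) 1
    have e10 := congrFun (congrFun hm 1) 0
    have e11 := congrFun (congrFun hm 1) 1
    have hdet : g 0 0 * g 1 1 - g 0 1 * g 1 0 = 1 := sl2_det g
    simp [Matrix.mul_apply, Fin.sum_univ_two] at e00 e01 e10 e11
    have hs : g 0 0 + g 1 1 ≠ 0 := fun h0 => h2 (by linear_combination -hdet - e00 + g 0 0 * h0)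
    have hb : g 0 1 = 0 := (mul_eq_zero.1 (show g 0 1 * (g 0 0 + g 1 1) = 0 by linear_combination e01)).resolve_right hs
    have hc : g 1 0 = 0 := (mul_eq_zero.1 (show g 1 0 * (g 0 0 + g 1 1) = 0 by linear_combination e10)).resolve_right hs
    have ha : g 0 0 = g 1 1 := by
      rw [hb, hc] at hdet
      rw [hb, hc] at e00
      have : g 0 0 ≠ 0 := fun h0 => by rw [h0] at hdet; simp at hdet
      exact mul_left_cancel₀ this (by linear_combination e00 - hdet)
    have hneg : g = -1 := by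
      have hcase : g 0 0 = 1 ∨ g 0 0 = -1 := by
        refine mul_self_eq_one_iff.1 ?_
        rw [hb, hc] at e00
        linear_combination e00
      rcases hcase with h1 | h1
      · exact absurd (by ext i j; fin_cases i <;> fin_cases j <;> simp [hb, hc, h1, ← ha]) hg1
      · ext i j; fin_cases i <;> fin_cases j <;> simp [hb, hc, h1, ← ha]
    exact hneg ▸ hg

theorem sl_mul_apply {K : Type*} [CommRing K] (a b : SL(2, K)) (i j : Fin 2) :
    (a * b) i j = a i 0 * b 0 j + a i 1 * b 1 j := by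
  rw [Matrix.SpecialLinearGroup.coe_mul]
  simp [Matrix.mul_apply, Fin.sum_univ_two]

variable (hF : Facts D co) {p : ℕ} [hpP : Fact p.Prime] [hpC : CharP k p]
include hF

/-- A finite order product of opposite root elements has algebraic parameter. -/
theorem param_integral {r : ℕ} (hr : r < D.nroots) {t : k} {n : ℕ} (hn : 0 < n)
    (h : (xU D r (1 : k) * xU D (D.neg r) t) ^ n = 1) :
    letI := ZMod.algebra k p
    IsIntegral (ZMod p) t := by
  letI := ZMod.algebra k p
  let K := AlgebraicClosure k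
  let ι : k →+* K := algebraMap k K
  haveI : CharP K p := charP_of_injective_algebraMap ι.injective p
  letI := ZMod.algebra K p
  let ιA : k →ₐ[ZMod p] K :=
    { ι with commutes' := fun r => RingHom.congr_fun (RingHom.ext_zmod (ι.comp (algebraMap (ZMod p) k))
        (algebraMap (ZMod p) K)) r }
  refine (isIntegral_algHom_iff ιA ι.injective).1 ?_
  change IsIntegral (ZMod p) (ι t)
  set s := ι t with hs
  obtain ⟨φ, -, hφ⟩ := hF.exists_sl2Hom (F := K) hr
  have hx : ∀ u : K, φ (Transfer.upperU u) = xU D r u := fun u =>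
    Units.ext (by rw [(hφ _ u).1 rfl, hF.xU_val hr])
  have hy : ∀ u : K, φ (Transfer.lowerU u) = xU D (D.neg r) u := fun u =>
    Units.ext (by rw [(hφ _ u).2 rfl, hF.xU_val (hF.neg_lt hr)])
  have hn' : φ ((Transfer.upperU 1 * Transfer.lowerU s) ^ n) = 1 := by
    rw [map_pow, map_mul, hx, hy]
    have hmap : ∀ (q : ℕ) (hq : q < D.nroots) (u : k),
        Units.map ι.mapMatrix.toMonoidHom (xU D q u : GL D.Idx k) = xU D q (ι u) := fun q hq u => by
      refine Units.ext ?_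
      show ((xU D q u : GL D.Idx k) : Matrix D.Idx D.Idx k).map ι = _
      rw [hF.xU_val' hq, hF.xU_val' hq, xR_map]
    rw [hs, ← map_one ι, ← hmap r hr, ← hmap _ (hF.neg_lt hr), ← map_mul, ← map_pow, h, map_one]
  have hdeg : ((Polynomial.X : Polynomial K) ^ 2 - Polynomial.C (2 + s) * Polynomial.X + 1).degree =
      (2 : WithBot ℕ) := by compute_degree!
  obtain ⟨μ, hμ⟩ := IsAlgClosed.exists_root (k := K)
    ((Polynomial.X : Polynomial K) ^ 2 - Polynomial.C (2 + s) * Polynomial.X + 1) (by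
      rw [hdeg]; decide)
  simp [Polynomial.IsRoot] at hμ
  have hμ0 : μ ≠ 0 := fun e => by rw [e] at hμ; simp at hμ
  have hm : μ * μ⁻¹ = 1 := mul_inv_cancel₀ hμ0
  have hst : s = μ + μ⁻¹ - 2 := mul_left_cancel₀ hμ0 (by linear_combination -hμ - hm)
  by_cases he : μ⁻¹ = μ
  · have : μ = 1 ∨ μ = -1 := by
      refine mul_self_eq_one_iff.1 ?_
      nth_rewrite 1 [← he]
      exact inv_mul_cancel₀ hμ0
    rcases this with rfl | rfl
    · rw [hst, inv_one, show (1 : K) + 1 - 2 = 0 by ring]; exact isIntegral_zero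
    · rw [hst, show (-1 : K) + (-1)⁻¹ - 2 = -((4 : ℕ) : K) by rw [inv_neg, inv_one]; push_cast; ring,
        ← map_natCast (algebraMap (ZMod p) K)]
      exact isIntegral_algebraMap.neg
  -- diagonalise
  have hd : μ⁻¹ - μ ≠ 0 := sub_ne_zero.2 he
  let e := (μ⁻¹ - μ)⁻¹
  let P : SL(2, K) := ⟨!![1, e; μ - 1 - s, e * (μ⁻¹ - 1 - s)], by
    rw [Matrix.det_fin_two_of, show 1 * (e * (μ⁻¹ - 1 - s)) - e * (μ - 1 - s) = e * (μ⁻¹ - μ) by ring]
    exact inv_mul_cancel₀ hd⟩
  let W : SL(2, K) := ⟨!![μ, 0; 0, μ⁻¹], by rw [Matrix.det_fin_two_of]; simp [hμ0]⟩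
  have hBP : Transfer.upperU 1 * Transfer.lowerU s = P * W * P⁻¹ := by
    rw [eq_mul_inv_iff_mul_eq]
    ext i j
    simp only [sl_mul_apply]
    fin_cases i <;> fin_cases j <;> simp [P, W, Transfer.upperU, Transfer.lowerU, hst] <;>
      first | ring1 | linear_combination hm | linear_combination -hm | linear_combination e * hm |
        linear_combination -e * hm
  rw [hBP, conj_pow, map_mul, map_mul, map_inv, mul_inv_eq_one, mul_eq_left] at hn'
  have hWn : ∀ m : ℕ, (((W ^ m : SL(2, K))) : Matrix (Fin 2) (Fin 2) K) = !![μ ^ m, 0; 0, (μ⁻¹) ^ m] := by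
    intro m
    induction m with
    | zero => simp [Matrix.one_fin_two]
    | succ m ih =>
      rw [pow_succ, Matrix.SpecialLinearGroup.coe_mul, ih]
      ext i j
      fin_cases i <;> fin_cases j <;> simp [W, Matrix.mul_apply, Fin.sum_univ_two, pow_succ]
  have hu : W ^ n * Transfer.upperU 1 = Transfer.upperU (μ ^ n * μ ^ n) * W ^ n := by
    ext i j
    rw [sl_mul_apply, sl_mul_apply, hWn]
    fin_cases i <;> fin_cases j <;> simp [Transfer.upperU, mul_assoc, hμ0]
  have h1 := congrArg φ hu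
  rw [map_mul, map_mul, hn', one_mul, mul_one, hx, hx] at h1
  have h2 := hF.xU_left_inj hr h1
  have hμi : IsIntegral (ZMod p) μ := by
    refine IsIntegral.of_pow (n := n + n) (by omega) ?_
    rw [pow_add, ← h2]; exact isIntegral_one
  have hμi' : μ⁻¹ = μ ^ (n + n - 1) := by
    refine inv_eq_of_mul_eq_one_right ?_
    rw [← pow_succ', show n + n - 1 + 1 = n + n by omega, pow_add, ← h2]
  rw [hst, hμi', show (2 : K) = ((2 : ℕ) : K) by norm_num, ← map_natCast (algebraMap (ZMod p) K)]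
  exact (hμi.add (hμi.pow _)).sub isIntegral_algebraMap

variable (hC : CommF.{v} D) {φ : k →+* k} {M : Subgroup (GL D.Idx k)} [Finite M] (hM : Ov D φ M)
  (hcert : Cert D sp) (hT : TopCert D) (hP : Radical.PairCert D co)
  (hZ : ∀ v ∈ M, v ∈ rootClosure D k (CenR D sp k) → v ∈ fixG D φ)
include hC hM hcert hT hP hZ

omit hT hP hZ hM in
theorem top_commute {u : GL D.Idx k} (hu : u ∈ UP D k) (a : k) :
    Commute (xU D (D.nroots - 1) a) u :=
  cen_commute hF hC hcert (TopRoot.top_lt hF) ⟨TopRoot.top_pos hF, Or.inl rfl⟩ a hu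

omit hT hP hZ in
theorem xtop_facts :
    xU D (D.nroots - 1) (1 : k) ∈ M ∧ xU D (D.nroots - 1) (1 : k) ∈ fixG D φ ∧
      (xU D (D.nroots - 1) (1 : k)) ^ p = 1 ∧ xU D (D.nroots - 1) (1 : k) ≠ 1 :=
  ⟨gen_one hF hM (TopRoot.top_lt hF), xU_mem_fixG hF (TopRoot.top_lt hF) (map_one φ),
    by rw [xU_pow hF (TopRoot.top_lt hF), CharP.cast_eq_zero, zero_mul, hF.xU_zero (TopRoot.top_lt hF)],
    fun h => one_ne_zero (hF.xU_eq_one (TopRoot.top_lt hF) h)⟩

include hpP hpC in
/-- A conjugate in `M` of the highest root element which is not fixed is opposite to it. -/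
theorem exists_opposite_form {g : GL D.Idx k} (hg : g ∈ M) (hgn : g ∉ fixG D φ) :
    ∃ u ∈ UP D k, ∃ t : k, t ≠ 0 ∧
      g * xU D (D.nroots - 1) (1 : k) * g⁻¹ = u * xU D (D.neg (D.nroots - 1)) t * u⁻¹ ∧
      g * xU D (D.nroots - 1) (1 : k) * g⁻¹ ∉ fixG D φ := by
  set T := D.nroots - 1 with hTdef
  have hT' : T < D.nroots := TopRoot.top_lt hF
  obtain ⟨hxM, hxf, hxp, hx1⟩ := xtop_facts (p := p) hF hC hM hcert
  have hyn : g * xU D T (1 : k) * g⁻¹ ∉ fixG D φ := fun h =>
    hgn (fixed_of_conj hF hC hM hcert hZ hP hg hxM hxf hxp hx1 h)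
  have hyM : g * xU D T (1 : k) * g⁻¹ ∈ M := M.mul_mem (M.mul_mem hg hxM) (M.inv_mem hg)
  obtain ⟨b, hb, n, hn, σ, hσ, u, hu, hbnu⟩ := hF.bruhat_exists hC (hM.le hg)
  obtain ⟨u1, hu1, h, hh, rfl⟩ := hF.mem_borel_iff.1 hb
  obtain ⟨c, hc0, hcx, -⟩ := hσ ⟨T, hT'⟩
  obtain ⟨cc, hcc⟩ := hF.mem_diagonal_iff.1 hh
  set μ := (σ ⟨T, hT'⟩).val with hμ
  have hμn : μ < D.nroots := Fin.is_lt _
  set t : k := ((∏ i ∈ Finset.range D.rank, cc i ^ D.cartan i μ : kˣ) : k) * c
  have ht0 : t ≠ 0 := mul_ne_zero (Units.ne_zero _) hc0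
  have hu' : u ∈ UP D k := rootClosure_mono (fun _ _ h => h.2.1) hu
  have hy : g * xU D T (1 : k) * g⁻¹ = u1 * xU D μ t * u1⁻¹ := by
    have e : n * xU D T (1 : k) * n⁻¹ = xU D μ c := by rw [hcx 1, mul_one]
    have e2 : h * xU D μ c * h⁻¹ = xU D μ t := by rw [hcc, hF.hT_conj_xU cc hμn]
    rw [hbnu, show u1 * h * n * u * xU D T (1 : k) * (u1 * h * n * u)⁻¹ =
      u1 * (h * (n * (u * xU D T (1 : k) * u⁻¹) * n⁻¹) * h⁻¹) * u1⁻¹ by group,
      ← (top_commute hF hC hcert hu' 1).eq, mul_inv_cancel_right, e, e2]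
  refine ⟨u1, hu1, t, ht0, ?_, hyn⟩
  suffices μ = D.neg T by rwa [this] at hy
  by_contra hne
  by_cases hμp : D.nroots / 2 ≤ μ
  · exact hyn (pos_fixed hF hC hM hcert hZ hyM (hy ▸ Subgroup.mul_mem _
      (Subgroup.mul_mem _ hu1 (xU_mem_rootClosure hμn hμp t)) (Subgroup.inv_mem _ hu1)))
  · have hμT : μ ≠ T := fun e => hμp (e ▸ TopRoot.top_pos hF)
    obtain ⟨f, hf, hf0, hfμ, -⟩ := hF.exists_halfspace hT' hμn hμT hne
    obtain ⟨f', hf', hf0', hfT, -⟩ := hF.exists_halfspace hμn hT' (Ne.symm hμT)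
      (fun e => hne (by rw [e, hF.neg_neg hμn]))
    have hsum : IsWeight D (fun r => f r + f' r) :=
      ⟨fun r hr => by simp only [hf.neg r hr, hf'.neg r hr]; ring,
        fun a ha b hb c h => by simp only [hf.add a ha b hb c h, hf'.add a ha b hb c h]; ring⟩
    refine hyn (fixed_of_pgroup hF hC hM hcert hZ hP
      (P := (rootClosure D k fun r => 0 < f r + f' r).map (MulAut.conj u1).toMonoidHom)
      ((TopRoot.isPGroup_halfspace hF p hsum).map _) (x := xU D T (1 : k)) ?_ hxM hxf hx1 ?_ hyM)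
    · refine ⟨_, xU_mem_rootClosure hT' (P := fun r => 0 < f r + f' r) (by omega) 1, ?_⟩
      simp only [MulEquiv.coe_toMonoidHom, MulAut.conj_apply]
      rw [← (top_commute hF hC hcert hu1 1).eq, mul_inv_cancel_right]
    · exact ⟨_, xU_mem_rootClosure hμn (P := fun r => 0 < f r + f' r) (by omega) t,
        by simp only [MulEquiv.coe_toMonoidHom, MulAut.conj_apply]; exact hy.symm⟩

omit hZ hP in
/-- The conjugate of the central involution of the rank one subgroup lies in `M`. -/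
theorem conj_invol_mem (hp2 : p ≠ 2) {u : GL D.Idx k} (hu : u ∈ UP D k) {t : k} (ht : t ≠ 0)
    (hy : u * xU D (D.neg (D.nroots - 1)) t * u⁻¹ ∈ M) :
    u * hU D (D.nroots - 1) (-1 : k) * u⁻¹ ∈ M := by
  set T := D.nroots - 1
  have hT' : T < D.nroots := TopRoot.top_lt hF
  set H := M.comap (MulAut.conj u).toMonoidHom with hH
  have hmem : ∀ g, g ∈ H ↔ u * g * u⁻¹ ∈ M := fun g => by simp [H]
  have hx : xU D T (1 : k) ∈ H := by
    rw [hmem, ← (top_commute hF hC hcert hu 1).eq, mul_inv_cancel_right]; exact gen_one hF hM hT'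
  have hy' : xU D (D.neg T) t ∈ H := (hmem _).2 hy
  rw [← hmem]
  have hfin : IsOfFinOrder (u * (xU D T (1 : k) * xU D (D.neg T) t) * u⁻¹) := by
    have h := (hmem _).1 (H.mul_mem hx hy')
    exact MonoidHom.isOfFinOrder M.subtype (isOfFinOrder_of_finite (⟨_, h⟩ : M))
  obtain ⟨n, hn, he⟩ := isOfFinOrder_iff_pow_eq_one.1 hfin
  rw [conj_pow, conj_eq_one_iff] at he
  letI := ZMod.algebra k p
  have halg : IsIntegral (ZMod p) t := param_integral (p := p) hF hT' hn he
  haveI : FiniteDimensional (ZMod p) (IntermediateField.adjoin (ZMod p) ({t} : Set k)) :=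
    IntermediateField.adjoin.finiteDimensional halg
  haveI : Finite (IntermediateField.adjoin (ZMod p) ({t} : Set k)) := Module.finite_of_finite (ZMod p)
  set S : Subfield k := Subfield.closure ({t} : Set k) with hS
  have hle : S ≤ (IntermediateField.adjoin (ZMod p) ({t} : Set k)).toSubfield :=
    Subfield.closure_le.2 (IntermediateField.subset_adjoin _ _)
  haveI : Finite S := Finite.of_injective
    (fun x : S => (⟨x.1, hle x.2⟩ : IntermediateField.adjoin (ZMod p) ({t} : Set k)))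
    fun a b e => Subtype.ext (congrArg (fun z : IntermediateField.adjoin (ZMod p) ({t} : Set k) => (z : k)) e)
  have htS : t ∈ S := Subfield.subset_closure rfl
  haveI : CharP S p := ⟨fun n => by
    rw [← CharP.cast_eq_zero_iff k p n]
    exact ⟨fun h => by simpa using congrArg Subtype.val h, fun h => Subtype.ext (by simpa using h)⟩⟩
  have hgen : Subfield.closure ({⟨t, htS⟩} : Set S) = ⊤ := by
    refine eq_top_iff.2 fun x _ => ?_
    have hx : x.1 ∈ (Subfield.closure ({⟨t, htS⟩} : Set S)).map S.subtype := ?_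
    · obtain ⟨z, hz, e⟩ := hx
      exact (Subtype.ext e : z = x) ▸ hz
    rw [S.subtype.map_field_closure, Set.image_singleton]
    exact x.2
  obtain ⟨ψ, -, hψ⟩ := hF.exists_sl2Hom (F := k) hT'
  have hxψ : ∀ a : k, ψ (Transfer.upperU a) = xU D T a := fun a =>
    Units.ext (by rw [(hψ _ a).1 rfl, hF.xU_val hT'])
  have hyψ : ∀ a : k, ψ (Transfer.lowerU a) = xU D (D.neg T) a := fun a =>
    Units.ext (by rw [(hψ _ a).2 rfl, hF.xU_val (hF.neg_lt hT')])
  -- swap the triangles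
  let w : SL(2, k) := wM
  have hmap : ∀ (g : SL(2, S)) (i j : Fin 2),
      (Matrix.SpecialLinearGroup.map S.subtype g) i j = ((g i j : S) : k) := fun _ _ _ => rfl
  let f : SL(2, S) →* GL D.Idx k :=
    ψ.comp ((MulAut.conj w).toMonoidHom.comp (Matrix.SpecialLinearGroup.map S.subtype))
  have hsub : Subgroup.closure ({Transfer.lowerU 1, Transfer.upperU ⟨t, htS⟩} : Set SL(2, S)) ≤ H.comap f := by
    refine (Subgroup.closure_le _).2 ?_
    rintro g (rfl | rfl)
    · have e : w * Matrix.SpecialLinearGroup.map S.subtype (Transfer.lowerU 1) * w⁻¹ = Transfer.upperU (-1) := by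
        rw [mul_inv_eq_iff_eq_mul]
        ext i j
        simp only [sl_mul_apply, hmap]
        fin_cases i <;> fin_cases j <;>
          simp [w, wM, Transfer.lowerU, Transfer.upperU]
      show f _ ∈ H
      simp only [f, MonoidHom.coe_comp, Function.comp_apply, MulEquiv.coe_toMonoidHom, MulAut.conj_apply]
      rw [e, hxψ, ← hF.xU_inv hT']
      exact H.inv_mem hx
    · have e : w * Matrix.SpecialLinearGroup.map S.subtype (Transfer.upperU ⟨t, htS⟩) * w⁻¹ =
          Transfer.lowerU (-t) := by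
        rw [mul_inv_eq_iff_eq_mul]
        ext i j
        simp only [sl_mul_apply, hmap]
        fin_cases i <;> fin_cases j <;>
          simp [w, wM, Transfer.lowerU, Transfer.upperU]
      show f _ ∈ H
      simp only [f, MonoidHom.coe_comp, Function.comp_apply, MulEquiv.coe_toMonoidHom, MulAut.conj_apply]
      rw [e, hyψ, ← hF.xU_inv (hF.neg_lt hT')]
      exact H.inv_mem hy'
  have h1 : f (-1) ∈ H :=
    hsub (neg_one_mem (p := p) hp2 (⟨t, htS⟩ : S) (fun e => ht (congrArg Subtype.val e)) hgen)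
  have e : f (-1) = hU D T (-1 : k) := by
    have e1 : (MulAut.conj w).toMonoidHom (Matrix.SpecialLinearGroup.map S.subtype (-1)) = (-1 : SL(2, k)) := by
      simp only [MulEquiv.coe_toMonoidHom, MulAut.conj_apply]
      rw [mul_inv_eq_iff_eq_mul]
      ext i j
      simp only [sl_mul_apply]
      fin_cases i <;> fin_cases j <;> simp [w, wM]
    show ψ ((MulAut.conj w).toMonoidHom (Matrix.SpecialLinearGroup.map S.subtype (-1))) = _
    rw [e1]
    have hw : (-1 : SL(2, k)) = (Transfer.upperU 1 * Transfer.lowerU (-1) * Transfer.upperU 1) *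
        (Transfer.upperU 1 * Transfer.lowerU (-1) * Transfer.upperU 1) := by
      ext i j
      simp only [sl_mul_apply]
      fin_cases i <;> fin_cases j <;>
        simp [Transfer.lowerU, Transfer.upperU]
    have hnu : ψ (Transfer.upperU 1 * Transfer.lowerU (-1) * Transfer.upperU 1) = nU D T (1 : k) := by
      rw [map_mul, map_mul, hxψ, hyψ, nU, inv_one]
    rw [hw, map_mul, hnu, hF.nU_sq hT', Units.val_neg, Units.val_one]
  rwa [e] at h1

include hpP hpC in
/-- In odd characteristic all elements of `M` are fixed. -/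
theorem fixed_odd (hp2 : p ≠ 2) {g : GL D.Idx k} (hg : g ∈ M) : g ∈ fixG D φ := by
  by_contra hgn
  set T := D.nroots - 1 with hTdef
  have hT' : T < D.nroots := TopRoot.top_lt hF
  have hTn := hF.neg_lt hT'
  obtain ⟨hxM, hxf, hxp, hx1⟩ := xtop_facts (p := p) hF hC hM hcert
  obtain ⟨u, hu, t, ht, hy, hyn⟩ := exists_opposite_form (p := p) hF hC hM hcert hT hP hZ hg hgn
  have hyM : u * xU D (D.neg T) t * u⁻¹ ∈ M := hy ▸ M.mul_mem (M.mul_mem hg hxM) (M.inv_mem hg)
  set h := hU D T (-1 : k) with hh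
  have hhM : h ∈ M ∧ h ∈ fixG D φ := by
    rw [hh, hU, ← hF.nU_inv hT']
    refine ⟨M.mul_mem (M.inv_mem (nU_one_mem hF hM hT')) (M.inv_mem (nU_one_mem hF hM hT')), ?_⟩
    refine Subgroup.mul_mem _ (Subgroup.inv_mem _ ?_) (Subgroup.inv_mem _ ?_) <;>
      rw [mem_fixG, gMap_nU hF φ hT', map_one]
  have hconj : ∀ r < D.nroots, ∀ a : k, h * xU D r a * h⁻¹ = xU D r ((-1) ^ prE D T r * a) := fun r hr a => by
    have := hF.hU_conj_xU (F := k) hT' hr (-1) a
    rw [Units.val_neg, Units.val_one] at this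
    rw [hh, this, Units.val_zpow_eq_zpow_val, Units.val_neg, Units.val_one]
  -- split off the orthogonal part
  set Q := rootClosure D k (fun r => D.nroots / 2 ≤ r ∧ 0 < prE D T r) with hQ
  set E := rootClosure D k (fun r => D.nroots / 2 ≤ r ∧ prE D T r = 0) with hE
  have hEQ : E ≤ Subgroup.normalizer (Q : Set (GL D.Idx k)) := by
    refine hF.le_normalizer_rootClosure hC fun i hi hiP j hj hjP => ⟨fun e => ?_, fun _ c hc => ?_⟩
    · have := (hF.neg_lt_half hi).1 (e ▸ hjP.1)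
      omega
    · obtain ⟨-, -, h2, hw⟩ := hF.commTerms_wt (hF.isWeight_prE hT') hi hj hc
      rw [nsmul_eq_mul, nsmul_eq_mul, hiP.2, mul_zero, zero_add] at hw
      refine ⟨le_trans hjP.1 (hF.commTerms_lt hi hj hiP.1 hjP.1 hc).2.2.le, ?_⟩
      rw [hw]
      exact mul_pos (by exact_mod_cast h2) hjP.2
  obtain ⟨q, hq, e, he, hue⟩ : ∃ q ∈ Q, ∃ e ∈ E, u = q * e := by
    clear hy hyM
    induction hu using Subgroup.closure_induction with
    | mem y hy =>
      obtain ⟨r, a, hr, hrp, rfl⟩ := hy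
      rcases hT.pr r hr hrp with h0 | h0
      · exact ⟨1, Subgroup.one_mem _, _, xU_mem_rootClosure hr ⟨hrp, h0⟩ a, by rw [one_mul]⟩
      · exact ⟨_, xU_mem_rootClosure hr ⟨hrp, by rcases h0 with h0 | ⟨h0, -⟩ <;> (rw [← hTdef] at h0; omega)⟩ a,
          1, Subgroup.one_mem _, by rw [mul_one]⟩
    | one => exact ⟨1, Subgroup.one_mem _, 1, Subgroup.one_mem _, by rw [mul_one]⟩
    | mul y z _ _ hy hz =>
      obtain ⟨q, hq, e, he, rfl⟩ := hy
      obtain ⟨q', hq', e', he', rfl⟩ := hz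
      exact ⟨q * (e * q' * e⁻¹), Q.mul_mem hq ((Subgroup.mem_normalizer_iff.1 (hEQ he) q').1 hq'), e * e',
        E.mul_mem he he', by group⟩
    | inv y _ hy =>
      obtain ⟨q, hq, e, he, rfl⟩ := hy
      exact ⟨e⁻¹ * q⁻¹ * e⁻¹⁻¹, (Subgroup.mem_normalizer_iff.1 (hEQ (E.inv_mem he)) q⁻¹).1 (Q.inv_mem hq),
        e⁻¹, E.inv_mem he, by group⟩
  have hQU : Q ≤ UP D k := rootClosure_mono fun _ _ h => h.1
  have hcomm : ∀ {g : GL D.Idx k}, (∀ r < D.nroots, D.nroots / 2 ≤ r → prE D T r = 0 → ∀ a, Commute g (xU D r a)) →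
      Commute g e := fun {g} hgc => by
    have : e ∈ Subgroup.centralizer {g} := (Subgroup.closure_le _).2 (by
      rintro x ⟨r, a, hr, ⟨hrp, h0⟩, rfl⟩
      exact Subgroup.mem_centralizer_singleton_iff.2 (hgc r hr hrp h0 a).eq.symm) he
    exact (Subgroup.mem_centralizer_singleton_iff.1 this).symm
  have hey : Commute (xU D (D.neg T) t) e := hcomm fun r hr hrp h0 a => by
    have hne : r ≠ D.neg T := fun e' => by
      have := (hF.neg_lt_half hT').1 (e' ▸ hrp)
      have := TopRoot.top_pos hF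
      omega
    have hne' : r ≠ D.neg (D.neg T) := fun e' => by
      rw [hF.neg_neg hT'] at e'
      rw [e', hF.prE_self hT'] at h0
      omega
    show _ = _
    rw [hF.xU_comm hC hTn hr hne hne', show cwR D (D.neg T) r t a = [] by rw [cwR, show D.commTerms (D.neg T) r = [] from hT.perp r hr hrp h0]; rfl]
    simp [wU]
  have heh : Commute h e := hcomm fun r hr _ h0 a => by
    show _ = _
    rw [← mul_inv_eq_iff_eq_mul, hconj r hr, h0, zpow_zero, one_mul]
  have hyq : u * xU D (D.neg T) t * u⁻¹ = q * xU D (D.neg T) t * q⁻¹ := by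
    rw [hue, show q * e * xU D (D.neg T) t * (q * e)⁻¹ = q * (e * xU D (D.neg T) t * e⁻¹) * q⁻¹ by group,
      ← hey.eq, mul_inv_cancel_right]
  have hzq : u * h * u⁻¹ = q * h * q⁻¹ := by
    rw [hue, show q * e * h * (q * e)⁻¹ = q * (e * h * e⁻¹) * q⁻¹ by group, ← heh.eq, mul_inv_cancel_right]
  have hzM : q * h * q⁻¹ ∈ M := hzq ▸ conj_invol_mem (p := p) hF hC hM hcert hT hp2 hu ht hyM
  have hzf : q * h * q⁻¹ ∈ fixG D φ := by
    refine fixed_of_commute hF hC hM hcert hZ hP hzM hxM hxf hxp hx1 (Commute.symm ?_)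
    refine (Commute.mul_right ((top_commute hF hC hcert (hQU hq) 1)) ?_).mul_right
      ((top_commute hF hC hcert (hQU hq) 1)).inv_right
    show _ = _
    have := hconj T hT' (1 : k)
    rw [hF.prE_self hT', show ((-1 : k) ^ (2 : ℤ) * 1) = 1 by norm_num, mul_inv_eq_iff_eq_mul] at this
    exact this.symm
  -- modulo the highest root subgroup
  set X := rootClosure D k (· = T) with hX
  have hXU : X ≤ UP D k := rootClosure_mono fun _ _ h => h ▸ TopRoot.top_pos hF
  have hXc : ∀ {w z : GL D.Idx k}, w ∈ UP D k → z ∈ X → Commute z w := fun {w z} hw hz => by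
    have : z ∈ Subgroup.centralizer {w} := (Subgroup.closure_le _).2 (by
      rintro x ⟨r, a, -, rfl, rfl⟩
      exact Subgroup.mem_centralizer_singleton_iff.2 (top_commute hF hC hcert hw a).eq) hz
    exact Subgroup.mem_centralizer_singleton_iff.1 this
  have hcomQ : ∀ a ∈ Q, ∀ b ∈ Q, a⁻¹ * b⁻¹ * a * b ∈ X := by
    have hgen : ∀ r < D.nroots, D.nroots / 2 ≤ r → 0 < prE D T r → ∀ c, ∀ b ∈ Q,
        xU D r c * b * (xU D r c)⁻¹ * b⁻¹ ∈ X := by
      intro r hr hrp hr0 c b hb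
      induction hb using Subgroup.closure_induction with
      | mem y hy =>
        obtain ⟨s, d, hs, ⟨hsp, hs0⟩, rfl⟩ := hy
        by_cases e' : s = r
        · rw [e', hF.xU_inv hr, hF.xU_inv hr, hF.xU_add hr, hF.xU_add hr, hF.xU_add hr,
            show c + d + -c + -d = 0 by ring, hF.xU_zero hr]
          exact X.one_mem
        have hneg : r ≠ D.neg s := fun e'' => by
          have := (hF.neg_lt_half hs).1 (e'' ▸ hrp)
          omega
        have hW : wU D (cwR D s r d c) ∈ X := wU_mem fun z hz => by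
          obtain ⟨cc, hcc, rfl⟩ := List.mem_map.1 hz
          obtain ⟨h1, h2, h3, hw⟩ := hF.commTerms_wt (hF.isWeight_prE hT') hs hr hcc
          rw [nsmul_eq_mul, nsmul_eq_mul] at hw
          have := le_mul_of_one_le_left hs0.le (show (1 : ℤ) ≤ (cc.2.2.1 : ℤ) by exact_mod_cast h2)
          have := le_mul_of_one_le_left hr0.le (show (1 : ℤ) ≤ (cc.2.2.2 : ℤ) by exact_mod_cast h3)
          have hp' : D.nroots / 2 ≤ cc.1 := le_trans hsp (hF.commTerms_lt hs hr hsp hrp hcc).2.1.le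
          refine xU_mem_rootClosure h1 ?_ _
          rcases hT.pr cc.1 h1 hp' with h | h | ⟨-, h⟩
          · rw [← hTdef] at h; omega
          · rw [← hTdef] at h; omega
          · exact h
        rw [hF.xU_comm hC hs hr (Ne.symm e') hneg,
          show xU D s d * xU D r c * wU D (cwR D s r d c) * (xU D r c)⁻¹ * (xU D s d)⁻¹ =
            (xU D s d * xU D r c) * wU D (cwR D s r d c) * (xU D s d * xU D r c)⁻¹ by group,
          ← (hXc (Subgroup.mul_mem _ (xU_mem_rootClosure hs hsp d) (xU_mem_rootClosure hr hrp c)) hW).eq,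
          mul_inv_cancel_right]
        exact hW
      | one => simp
      | mul y z hy' hz' hy hz =>
        rw [show xU D r c * (y * z) * (xU D r c)⁻¹ * (y * z)⁻¹ =
          (xU D r c * y * (xU D r c)⁻¹ * y⁻¹) * (y * (xU D r c * z * (xU D r c)⁻¹ * z⁻¹) * y⁻¹) by group,
          ← (hXc (hQU hy') hz).eq, mul_inv_cancel_right]
        exact X.mul_mem hy hz
      | inv y hy' hy =>
        rw [show xU D r c * y⁻¹ * (xU D r c)⁻¹ * y⁻¹⁻¹ =
          y⁻¹ * (xU D r c * y * (xU D r c)⁻¹ * y⁻¹)⁻¹ * y⁻¹⁻¹ by group,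
          ← (hXc (Subgroup.inv_mem _ (hQU hy')) (X.inv_mem hy)).eq, mul_inv_cancel_right]
        exact X.inv_mem hy
    have hgen' : ∀ a ∈ Q, ∀ b ∈ Q, a * b * a⁻¹ * b⁻¹ ∈ X := by
      intro a ha
      induction ha using Subgroup.closure_induction with
      | mem y hy =>
        obtain ⟨r, c, hr, ⟨hrp, hr0⟩, rfl⟩ := hy
        exact hgen r hr hrp hr0 c
      | one => intro b _; simp
      | mul y z hy' hz' hy hz =>
        intro b hb
        rw [show y * z * b * (y * z)⁻¹ * b⁻¹ =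
          (y * (z * b * z⁻¹ * b⁻¹) * y⁻¹) * (y * b * y⁻¹ * b⁻¹) by group,
          ← (hXc (hQU hy') (hz b hb)).eq, mul_inv_cancel_right]
        exact X.mul_mem (hz b hb) (hy b hb)
      | inv y hy' hy =>
        intro b hb
        rw [show y⁻¹ * b * y⁻¹⁻¹ * b⁻¹ = y⁻¹ * (y * b * y⁻¹ * b⁻¹)⁻¹ * y⁻¹⁻¹ by group,
          ← (hXc (Subgroup.inv_mem _ (hQU hy')) (X.inv_mem (hy b hb))).eq, mul_inv_cancel_right]
        exact X.inv_mem (hy b hb)
    intro a ha b hb
    have := hgen' a⁻¹ (Q.inv_mem ha) b⁻¹ (Q.inv_mem hb)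
    rwa [inv_inv, inv_inv] at this
  have hinv : ∀ a ∈ Q, h * a * h⁻¹ * a ∈ X := by
    intro a ha
    induction ha using Subgroup.closure_induction with
    | mem y hy =>
      obtain ⟨r, c, hr, ⟨hrp, hr0⟩, rfl⟩ := hy
      rw [hconj r hr, hF.xU_add hr]
      rcases hT.pr r hr hrp with h | h | ⟨-, h⟩
      · rw [← hTdef] at h; omega
      · rw [← hTdef] at h
        rw [h, zpow_one, neg_one_mul, neg_add_cancel, hF.xU_zero hr]; exact X.one_mem
      · exact xU_mem_rootClosure hr (P := (· = T)) h _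
    | one => simp
    | mul y z hy' hz' hy hz =>
      obtain ⟨Z, hZ', e1⟩ : ∃ Z ∈ X, h * z * h⁻¹ = z⁻¹ * Z := by
        refine ⟨z * (h * z * h⁻¹), ?_, by group⟩
        have := (hXc (hQU hz') hz).eq
        rw [show z * (h * z * h⁻¹) = z * (h * z * h⁻¹ * z) * z⁻¹ by group, ← this, mul_inv_cancel_right]
        exact hz
      have e2 : h * (y * z) * h⁻¹ * (y * z) = (h * y * h⁻¹ * y) * (y⁻¹ * z⁻¹ * y * z) * Z := by
        rw [show h * (y * z) * h⁻¹ * (y * z) = (h * y * h⁻¹) * (h * z * h⁻¹) * (y * z) by group, e1,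
          mul_assoc (h * y * h⁻¹), mul_assoc z⁻¹ Z,
          (hXc (Subgroup.mul_mem _ (hQU hy') (hQU hz')) hZ').eq]
        group
      rw [e2]
      exact X.mul_mem (X.mul_mem hy (hcomQ y hy' z hz')) hZ'
    | inv y hy' hy =>
      rw [show h * y⁻¹ * h⁻¹ * y⁻¹ = (y * (h * y * h⁻¹ * y) * y⁻¹)⁻¹ by group,
        ← (hXc (hQU hy') hy).eq, mul_inv_cancel_right]
      exact X.inv_mem hy
  set V := (M ⊓ fixG D φ ⊓ UP D k) ⊔ X with hV
  have hq2 : q ^ 2 ∈ V := by
    have e1 : q * h * q⁻¹ * h⁻¹ = q ^ 2 * (h * q⁻¹ * h⁻¹ * q⁻¹) := by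
      have := (hXc (hQU (Q.inv_mem hq)) (hinv _ (Q.inv_mem hq))).eq
      rw [pow_two, mul_assoc q q, show q * (h * q⁻¹ * h⁻¹ * q⁻¹) = (q * (h * q⁻¹ * h⁻¹)) * q⁻¹ by group]
      have h' := (hXc (hQU hq) (hinv _ (Q.inv_mem hq))).eq
      rw [show q * (q * (h * q⁻¹ * h⁻¹) * q⁻¹) = q * (q * (h * q⁻¹ * h⁻¹ * q⁻¹)) by group, ← h']
      group
    have hwM : q * h * q⁻¹ * h⁻¹ ∈ M ⊓ fixG D φ ⊓ UP D k := by
      refine ⟨⟨M.mul_mem hzM (M.inv_mem hhM.1), Subgroup.mul_mem _ hzf (Subgroup.inv_mem _ hhM.2)⟩, ?_⟩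
      rw [e1]
      exact Subgroup.mul_mem _ (Subgroup.pow_mem _ (hQU hq) 2) (hXU (hinv _ (Q.inv_mem hq)))
    rw [show q ^ 2 = q * h * q⁻¹ * h⁻¹ * (h * q⁻¹ * h⁻¹ * q⁻¹)⁻¹ by rw [e1, mul_inv_cancel_right]]
    exact V.mul_mem (Subgroup.mem_sup_left hwM) (Subgroup.mem_sup_right (X.inv_mem (hinv _ (Q.inv_mem hq))))
  have hqV : q ∈ V := by
    obtain ⟨s, hs⟩ := (pos_isPGroup (p := p) hF hC) ⟨q, hQU hq⟩
    have hs' : q ^ p ^ s = 1 := congrArg Subtype.val hs
    obtain ⟨m, hm⟩ : Odd (p ^ s) := ((Fact.out : p.Prime).odd_of_ne_two hp2).pow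
    have : q = (q ^ 2) ^ (m + 1) := by
      rw [← pow_mul, show 2 * (m + 1) = p ^ s + 1 by omega, pow_succ, hs', one_mul]
    rw [this]
    exact V.pow_mem hq2 _
  obtain ⟨v, hv, z, hz, rfl⟩ : ∃ v ∈ M ⊓ fixG D φ ⊓ UP D k, ∃ z ∈ X, q = v * z := by
    rw [hV, ← Subgroup.closure_eq (M ⊓ fixG D φ ⊓ UP D k), ← Subgroup.closure_eq X, ← Subgroup.closure_union] at hqV
    clear hq hue hyq hzq hzM hzf hq2
    induction hqV using Subgroup.closure_induction with
    | mem w hw =>
      rcases hw with hw | hw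
      · exact ⟨w, hw, 1, X.one_mem, by rw [mul_one]⟩
      · exact ⟨1, Subgroup.one_mem _, w, hw, by rw [one_mul]⟩
    | one => exact ⟨1, Subgroup.one_mem _, 1, X.one_mem, by rw [mul_one]⟩
    | mul a b _ _ ha hb =>
      obtain ⟨a1, ha1, a2, ha2, rfl⟩ := ha
      obtain ⟨b1, hb1, b2, hb2, rfl⟩ := hb
      refine ⟨a1 * b1, Subgroup.mul_mem _ ha1 hb1, a2 * b2, X.mul_mem ha2 hb2, ?_⟩
      rw [mul_assoc a1 a2, ← mul_assoc a2 b1 b2, (hXc hb1.2 ha2).eq]
      group
    | inv a _ ha =>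
      obtain ⟨a1, ha1, a2, ha2, rfl⟩ := ha
      refine ⟨a1⁻¹, Subgroup.inv_mem _ ha1, a2⁻¹, X.inv_mem ha2, ?_⟩
      rw [mul_inv_rev, ← (hXc (Subgroup.inv_mem _ ha1.2) (X.inv_mem ha2)).eq]
  -- the element is centralised by an orthogonal fundamental root element
  obtain ⟨j, hj, hj0⟩ := hT.nu
  have hp := hF.simple_lt j hj
  set ν := D.simple j
  have hνy : Commute (z * xU D (D.neg T) t * z⁻¹) (xU D ν (1 : k)) := by
    have h1 : Commute z (xU D ν (1 : k)) := hXc (xU_mem_rootClosure hp.2 hp.1 1) hz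
    have h2 : Commute (xU D (D.neg T) t) (xU D ν (1 : k)) := by
      have hne : ν ≠ D.neg T := fun e' => by
        have := (hF.neg_lt_half hT').1 (e' ▸ hp.1)
        have := TopRoot.top_pos hF
        omega
      have hne' : ν ≠ D.neg (D.neg T) := fun e' => by
        rw [hF.neg_neg hT'] at e'
        rw [e', ← hTdef, hF.prE_self hT'] at hj0
        omega
      show _ = _
      rw [hF.xU_comm hC hTn hp.2 hne hne', show cwR D (D.neg T) ν t (1 : k) = [] by
        rw [cwR, show D.commTerms (D.neg T) ν = [] from hT.perp ν hp.2 hp.1 hj0]; rfl]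
      simp [wU]
    exact (h1.mul_left h2).mul_left h1.inv_left
  have hvy : v⁻¹ * (u * xU D (D.neg T) t * u⁻¹) * v = z * xU D (D.neg T) t * z⁻¹ := by rw [hyq]; group
  have hy0 : z * xU D (D.neg T) t * z⁻¹ ∈ fixG D φ := by
    refine fixed_of_commute hF hC hM hcert hZ hP ?_ (gen_one hF hM hp.2) (xU_mem_fixG hF hp.2 (map_one φ))
      (by rw [xU_pow hF hp.2, CharP.cast_eq_zero, zero_mul, hF.xU_zero hp.2])
      (fun e' => one_ne_zero (hF.xU_eq_one hp.2 e')) hνy
    rw [← hvy]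
    exact M.mul_mem (M.mul_mem (M.inv_mem hv.1.1) hyM) hv.1.1
  apply hyn
  rw [hy, show u * xU D (D.neg T) t * u⁻¹ = v * (z * xU D (D.neg T) t * z⁻¹) * v⁻¹ by rw [← hvy]; group]
  exact Subgroup.mul_mem _ (Subgroup.mul_mem _ hv.1.2 hy0) (Subgroup.inv_mem _ hv.1.2)

end CfsgLib.Chev.Over
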