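/-
Certificates for the seven tabulated data.
-/
import Cfsg.Agent.Lib.Chev.Overgroup.Odd

set_option autoImplicit false
set_option maxRecDepth 20000

namespace CfsgLib.Chev.Over

open Cfsg.Lie CfsgLib.Chev.Table

variable (D : ChevalleyDatum)

/-- `b` is a positive root that can be added to `r` with structure constant of absolute value `m`. -/
def addB (r b m : ℕ) : Bool :=
  Nat.ble (D.nroots / 2) b && (match tgt D r b with | some _ => Nat.beq (str D r b).natAbs m | none => false)

/-- Check of `Cert`. -/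
def certB (sp : Option (ℕ × ℕ)) : Bool :=
  allBelow D.nroots (fun r => Nat.blt r (D.nroots / 2) || Nat.beq r (D.nroots - 1) ||
    anyBelow D.nroots (fun b => addB D r b 1) ||
    (anyBelow D.nroots (fun b => addB D r b 2) && anyBelow D.nroots (fun b => addB D r b 3)) ||
    (match sp with | some (_, s) => Nat.beq r s | none => false)) &&
  allBelow D.rank (fun i => !(Nat.beq (D.simple i) (D.nroots - 1)) &&
    (match sp with | some (_, s) => !(Nat.beq (D.simple i) s) | none => true)) &&
  (match sp with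
    | some (l, s) => Nat.blt s D.nroots && Nat.ble (D.nroots / 2) s &&
        allBelow D.nroots (fun b => Nat.blt b (D.nroots / 2) ||
          (D.commTerms s b).all (fun c => Nat.beq (c.2.1.natAbs % l) 0)) &&
        anyBelow D.nroots (fun b => addB D s b l)
    | none => true)

/-- Check of `TopCert`, except for the involution. -/
def topB : Bool :=
  allBelow D.nroots (fun r => Nat.blt r (D.nroots / 2) ||
    (prE D (D.nroots - 1) r == 0 && (D.commTerms (D.neg (D.nroots - 1)) r).isEmpty) ||
    prE D (D.nroots - 1) r == 1 ||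
    (prE D (D.nroots - 1) r == 2 && Nat.beq r (D.nroots - 1))) &&
  anyBelow D.rank (fun j => prE D (D.nroots - 1) (D.simple j) == 0)

variable {D}

theorem addB_spec {r b m : ℕ} (h : addB D r b m = true) :
    D.nroots / 2 ≤ b ∧ ∃ K, tgt D r b = some K ∧ (str D r b).natAbs = m := by
  simp only [addB, Bool.and_eq_true, Nat.ble_eq] at h
  refine ⟨h.1, ?_⟩
  revert h
  cases tgt D r b with
  | none => simp
  | some K => intro h; exact ⟨K, rfl, Nat.eq_of_beq_eq_true h.2⟩

theorem cert_of_certB {sp : Option (ℕ × ℕ)} (h : certB D sp = true) : Cert D sp := by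
  simp only [certB, Bool.and_eq_true] at h
  obtain ⟨⟨h1, h2⟩, h3⟩ := h
  refine ⟨fun r hr hp => ?_, fun l r e => ?_, fun i hi => ?_⟩
  · have := allBelow_spec h1 r hr
    simp only [Bool.or_eq_true, Bool.and_eq_true, Nat.blt_eq] at this
    rcases this with (((h | h) | h) | h) | h
    · omega
    · exact Or.inl (Nat.eq_of_beq_eq_true h)
    · obtain ⟨b, hb, hbb⟩ := anyBelow_spec h
      obtain ⟨hbp, K, hK, hN⟩ := addB_spec hbb
      exact Or.inr (Or.inl ⟨b, b, K, K, hb, hb, hbp, hbp, hK, hK, by rw [hN]; exact Nat.coprime_one_left 1⟩)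
    · obtain ⟨⟨b, hb, hbb⟩, ⟨c, hc, hcc⟩⟩ := And.imp anyBelow_spec anyBelow_spec h
      obtain ⟨hbp, K, hK, hN⟩ := addB_spec hbb
      obtain ⟨hcp, L, hL, hN'⟩ := addB_spec hcc
      exact Or.inr (Or.inl ⟨b, c, K, L, hb, hc, hbp, hcp, hK, hL, by rw [hN, hN']; decide⟩)
    · rcases sp with _ | ⟨l, s⟩
      · simp at h
      · exact Or.inr (Or.inr ⟨l, by rw [Nat.eq_of_beq_eq_true h]⟩)
  · subst e
    simp only [Bool.and_eq_true, Nat.blt_eq, Nat.ble_eq] at h3
    obtain ⟨⟨⟨a1, a2⟩, a3⟩, a4⟩ := h3
    refine ⟨a1, a2, fun b hb hbp c hc => ?_, ?_⟩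
    · have := allBelow_spec a3 b hb
      simp only [Bool.or_eq_true, Nat.blt_eq, List.all_eq_true] at this
      exact Int.natCast_dvd.2 (Nat.dvd_of_mod_eq_zero (Nat.eq_of_beq_eq_true
        ((this.resolve_left (by omega)) c hc)))
    · obtain ⟨b, hb, hbb⟩ := anyBelow_spec a4
      obtain ⟨hbp, K, hK, hN⟩ := addB_spec hbb
      exact ⟨b, K, hb, hbp, hK, hN⟩
  · have := allBelow_spec h2 i hi
    simp only [Bool.and_eq_true, Bool.not_eq_true'] at this
    refine ⟨fun e => ?_, fun l e => ?_⟩
    · rw [e] at this; simp at this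
    · subst e; simp at this

theorem top_of_topB (h : topB D = true)
    (hinv : (∃ i j, i < D.rank ∧ j < D.rank ∧ i ≠ j ∧ D.commTerms (D.simple i) (D.simple j) = []) ∨
      ∃ (L : List ℕ) (j : ℕ), j < D.rank ∧ D.nroots - 1 ∈ L ∧ D.simple j ∉ L ∧
        ∀ i < D.rank, ∀ r ∈ L, D.reflectRoot i r ∈ L) : TopCert D := by
  simp only [topB, Bool.and_eq_true] at h
  refine ⟨fun r hr hp => ?_, fun r hr hp h0 => ?_, ?_, hinv⟩
  · have := allBelow_spec h.1 r hr
    simp only [Bool.or_eq_true, Bool.and_eq_true, Nat.blt_eq, beq_iff_eq] at this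
    rcases this with ((h' | h') | h') | h'
    · omega
    · exact Or.inl h'.1
    · exact Or.inr (Or.inl h')
    · exact Or.inr (Or.inr ⟨h'.1, Nat.eq_of_beq_eq_true h'.2⟩)
  · have := allBelow_spec h.1 r hr
    simp only [Bool.or_eq_true, Bool.and_eq_true, Nat.blt_eq, beq_iff_eq, List.isEmpty_iff] at this
    rcases this with ((h' | h') | h') | h'
    · omega
    · exact h'.2
    · omega
    · omega
  · obtain ⟨j, hj, hj'⟩ := anyBelow_spec h.2
    exact ⟨j, hj, beq_iff_eq.1 hj'⟩

theorem cert_G2 : Cert chevG2 (some (3, 9)) := cert_of_certB (by decide +kernel)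
theorem cert_B2 : Cert chevB2 (some (2, 6)) := cert_of_certB (by decide +kernel)
theorem cert_F4 : Cert chevF4 (some (2, 44)) := cert_of_certB (by decide +kernel)
theorem cert_D4 : Cert chevD4 none := cert_of_certB (by decide +kernel)
theorem cert_E6 : Cert chevE6 none := cert_of_certB (by decide +kernel)
theorem cert_E7 : Cert chevE7 none := cert_of_certB (by decide +kernel)
theorem cert_E8 : Cert chevE8 none := cert_of_certB (by decide +kernel)

theorem top_G2 : TopCert chevG2 :=
  top_of_topB (by decide +kernel) (Or.inr ⟨[0, 1, 5, 6, 10, 11], 0, by decide +kernel, by decide +kernel,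
    by decide +kernel, by decide +kernel⟩)
theorem top_B2 : TopCert chevB2 :=
  top_of_topB (by decide +kernel) (Or.inr ⟨[0, 3, 4, 7], 0, by decide +kernel, by decide +kernel,
    by decide +kernel, by decide +kernel⟩)
theorem top_F4 : TopCert chevF4 :=
  top_of_topB (by decide +kernel) (Or.inl ⟨0, 2, by decide +kernel, by decide +kernel, by decide, by decide +kernel⟩)
theorem top_D4 : TopCert chevD4 :=
  top_of_topB (by decide +kernel) (Or.inl ⟨0, 2, by decide +kernel, by decide +kernel, by decide, by decide +kernel⟩)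
theorem top_E6 : TopCert chevE6 :=
  top_of_topB (by decide +kernel) (Or.inl ⟨0, 1, by decide +kernel, by decide +kernel, by decide, by decide +kernel⟩)
theorem top_E7 : TopCert chevE7 :=
  top_of_topB (by decide +kernel) (Or.inl ⟨0, 1, by decide +kernel, by decide +kernel, by decide, by decide +kernel⟩)
theorem top_E8 : TopCert chevE8 :=
  top_of_topB (by decide +kernel) (Or.inl ⟨0, 1, by decide +kernel, by decide +kernel, by decide, by decide +kernel⟩)

end CfsgLib.Chev.Over
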