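/-
The fixed fields of powers of the Frobenius map.
-/
import Mathlib

set_option autoImplicit false
set_option linter.unusedSectionVars false
set_option linter.style.haveILetI false

namespace CfsgLib.Chev.Over

open Polynomial
open scoped Classical

universe v

variable (k : Type v) [Field k] (p : ℕ) [Fact p.Prime] [CharP k p] (n : ℕ)

/-- The elements fixed by the `p ^ n`-th power map. -/
noncomputable def frobFix : Subfield k := RingHom.eqLocusField (iterateFrobenius k p n) (RingHom.id k)

variable {k} {p} {n}

theorem mem_frobFix {x : k} : x ∈ frobFix k p n ↔ x ^ p ^ n = x := by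
  rw [frobFix, RingHom.mem_eqLocusField, iterateFrobenius_def, RingHom.id_apply]

theorem frobFix_poly (hn : n ≠ 0) :
    (X ^ p ^ n - X : k[X]) ≠ 0 ∧ (X ^ p ^ n - X : k[X]).natDegree = p ^ n := by
  have h1 : 1 < p ^ n := Nat.one_lt_pow hn (Fact.out : p.Prime).one_lt
  exact ⟨FiniteField.X_pow_card_sub_X_ne_zero k h1, FiniteField.X_pow_card_sub_X_natDegree_eq k h1⟩

theorem coe_frobFix (hn : n ≠ 0) :
    (frobFix k p n : Set k) = ↑((X ^ p ^ n - X : k[X]).roots.toFinset) := by
  classical
  ext x
  simp [mem_frobFix, (frobFix_poly (k := k) (p := p) hn).1, sub_eq_zero]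

theorem finite_frobFix (hn : n ≠ 0) : Finite (frobFix k p n) := by
  classical
  exact ((Finset.finite_toSet _).subset (coe_frobFix hn).le).to_subtype

theorem card_frobFix_le (hn : n ≠ 0) : Nat.card (frobFix k p n) ≤ p ^ n := by
  classical
  refine ((Nat.card_congr (Equiv.setCongr (coe_frobFix (k := k) (p := p) hn))).trans
    (Nat.card_eq_finsetCard _)).trans_le ?_
  exact (Multiset.toFinset_card_le _).trans ((card_roots' _).trans (frobFix_poly hn).2.le)

theorem card_frobFix (hn : n ≠ 0) (hs : (X ^ p ^ n - X : k[X]).Splits) :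
    Nat.card (frobFix k p n) = p ^ n := by
  classical
  refine ((Nat.card_congr (Equiv.setCongr (coe_frobFix (k := k) (p := p) hn))).trans
    (Nat.card_eq_finsetCard _)).trans ?_
  rw [Multiset.toFinset_card_of_nodup (nodup_roots (galois_poly_separable p _ (dvd_pow_self p hn))),
    ← hs.natDegree_eq_card_roots, (frobFix_poly hn).2]

theorem card_frobFix_of_isAlgClosed [IsAlgClosed k] (hn : n ≠ 0) : Nat.card (frobFix k p n) = p ^ n :=
  card_frobFix hn (IsAlgClosed.splits _)

theorem dvd_poly_mul (m : ℕ) : (X ^ p ^ n - X : k[X]) ∣ X ^ p ^ (n * m) - X := by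
  induction m with
  | zero => simp
  | succ m ih =>
    have e : (X ^ p ^ (n * (m + 1)) - X : k[X]) =
        (X ^ p ^ (n * m) - X) ^ p ^ n + (X ^ p ^ n - X) := by
      haveI : ExpChar k[X] p := ExpChar.prime (Fact.out : p.Prime)
      rw [sub_pow_expChar_pow, ← pow_mul, ← pow_add, mul_add, mul_one]
      ring
    rw [e]
    exact dvd_add (dvd_pow ih (pow_ne_zero _ (Fact.out : p.Prime).ne_zero)) dvd_rfl

theorem card_frobFix_of_card [Fintype k] {r : ℕ} (hn : n ≠ 0) (hr : r ≠ 0)
    (hk : Fintype.card k = (p ^ n) ^ r) : Nat.card (frobFix k p n) = p ^ n := by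
  refine card_frobFix hn (Splits.of_dvd ?_ (frobFix_poly (Nat.mul_ne_zero hn hr)).1 (dvd_poly_mul r))
  rw [splits_iff_card_roots, (frobFix_poly (Nat.mul_ne_zero hn hr)).2, pow_mul, ← hk,
    FiniteField.roots_X_pow_card_sub_X, ← Finset.card_def, Finset.card_univ]

/-- A finite subfield containing a finite subfield of order `q` has order a power of `q`. -/
theorem card_eq_pow {F S : Subfield k} (h : F ≤ S) [Finite S] :
    ∃ r, 1 ≤ r ∧ Nat.card S = Nat.card F ^ r := by
  letI : Algebra F S := (Subfield.inclusion h).toAlgebra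
  haveI : Finite F := Finite.of_injective _ (Subfield.inclusion h).injective
  haveI : Module.Finite F S := Module.Finite.of_finite
  exact ⟨Module.finrank F S, Module.finrank_pos, Module.natCard_eq_pow_finrank⟩

/-- A finite subfield is determined by its order. -/
theorem eq_frobFix_of_card {S : Subfield k} [Finite S] (hn : n ≠ 0) (hS : Nat.card S = p ^ n) :
    S = frobFix k p n := by
  have hle : S ≤ frobFix k p n := fun x hx => by
    haveI := Fintype.ofFinite S
    rw [mem_frobFix, ← hS, Nat.card_eq_fintype_card]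
    exact congrArg Subtype.val (FiniteField.pow_card (⟨x, hx⟩ : S))
  haveI := finite_frobFix (k := k) (p := p) hn
  apply SetLike.coe_injective
  exact Set.eq_of_subset_of_ncard_le hle
    (by rw [← Nat.card_coe_set_eq, ← Nat.card_coe_set_eq]; exact (card_frobFix_le hn).trans hS.ge)
    (Set.toFinite _)

end CfsgLib.Chev.Over
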