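/-
With only fixed root parameters in characteristic two the group `M` consists of fixed elements.
-/
import Cfsg.Agent.Lib.Chev.Overgroup.Odd

set_option autoImplicit false
set_option linter.unusedSectionVars false

namespace CfsgLib.Chev.Over

open Cfsg.Lie CfsgLib.Chev.FixedPoints

universe v

variable {D : ChevalleyDatum} {co : ℕ → ℕ → ℤ} {sp : Option (ℕ × ℕ)} {k : Type v} [Field k]
  (hF : Facts D co) (hC : CommF.{v} D) {φ : k →+* k} [hk2 : CharP k 2] {M : Subgroup (GL D.Idx k)} [Finite M]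
  (hM : Ov D φ M) (hcert : Cert D sp) (hT : TopCert D) (hP : Radical.PairCert D co)
  (hZ : ∀ v ∈ M, v ∈ rootClosure D k (CenR D sp k) → v ∈ fixG D φ)
include hF hC hk2 hM hcert hT hP hZ

/-- Two involutions of `M`, one fixed and one not, are conjugate in `M`. -/
theorem conj_of_invol {i z : GL D.Idx k} (hiM : i ∈ M) (hif : i ∈ fixG D φ) (hi : i * i = 1) (hi1 : i ≠ 1)
    (hzM : z ∈ M) (hzn : z ∉ fixG D φ) (hz : z * z = 1) : ∃ d ∈ M, i = d * z * d⁻¹ := by
  haveI : Fact (Nat.Prime 2) := ⟨Nat.prime_two⟩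
  have hi' : i⁻¹ = i := inv_eq_of_mul_eq_one_right hi
  have hz' : z⁻¹ = z := inv_eq_of_mul_eq_one_right hz
  set d := i * z with hd
  have hdM : d ∈ M := M.mul_mem hiM hzM
  have hzd : ∀ m : ℕ, z * d ^ m * z⁻¹ = (d ^ m)⁻¹ := fun m => by
    rw [← conj_pow, ← inv_pow]
    congr 1
    rw [hd, mul_inv_rev, hi', hz', show z * (i * z) * z = z * i * (z * z) by group, hz, mul_one]
  have hid : ∀ m : ℕ, i * d ^ m * i⁻¹ = (d ^ m)⁻¹ := fun m => by
    rw [← conj_pow, ← inv_pow]
    congr 1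
    rw [hd, mul_inv_rev, hi', hz', show i * (i * z) * i = (i * i) * z * i by group, hi, one_mul]
  have hfin : IsOfFinOrder d := MonoidHom.isOfFinOrder M.subtype (isOfFinOrder_of_finite (⟨d, hdM⟩ : M))
  rcases Nat.even_or_odd (orderOf d) with ⟨m, hm⟩ | ⟨m, hm⟩
  · exfalso
    have hpos := hfin.orderOf_pos
    set c := d ^ m with hc
    have hcc : c * c = 1 := by rw [hc, ← pow_add, ← hm, pow_orderOf_eq_one]
    have hc1 : c ≠ 1 := fun e => by
      have := Nat.le_of_dvd (by omega) (orderOf_dvd_of_pow_eq_one e)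
      omega
    have hc' : c⁻¹ = c := inv_eq_of_mul_eq_one_right hcc
    have h1 : Commute c i := by
      have := hid m
      rw [← hc, hc', mul_inv_eq_iff_eq_mul] at this
      exact this.symm
    have h2 : Commute z c := by
      have := hzd m
      rw [← hc, hc', mul_inv_eq_iff_eq_mul] at this
      exact this
    have hcf : c ∈ fixG D φ := fixed_of_commute hF hC hM hcert hZ hP (M.pow_mem hdM m) hiM hif
      (by rw [pow_two]; exact hi) hi1 h1
    exact hzn (fixed_of_commute hF hC hM hcert hZ hP hzM (M.pow_mem hdM m) hcf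
      (by rw [pow_two]; exact hcc) hc1 h2)
  · refine ⟨d ^ (m + 1), M.pow_mem hdM _, ?_⟩
    have h := hzd (m + 1)
    rw [mul_inv_eq_iff_eq_mul] at h
    have h2 : z * (d ^ (m + 1))⁻¹ = d ^ (m + 1) * z := by
      calc z * (d ^ (m + 1))⁻¹ = d ^ (m + 1) * ((d ^ (m + 1))⁻¹ * z) * (d ^ (m + 1))⁻¹ := by group
        _ = _ := by rw [← h]; group
    rw [mul_assoc, h2, ← mul_assoc, ← pow_add,
      show m + 1 + (m + 1) = (2 * m + 1) + 1 by omega, ← hm, pow_succ, pow_orderOf_eq_one, one_mul, hd,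
      mul_assoc, hz, mul_one]

/-- In characteristic two all elements of `M` are fixed. -/
theorem fixed_two {g : GL D.Idx k} (hg : g ∈ M) : g ∈ fixG D φ := by
  haveI : Fact (Nat.Prime 2) := ⟨Nat.prime_two⟩
  by_contra hgn
  set T := D.nroots - 1 with hTdef
  have hT' : T < D.nroots := TopRoot.top_lt hF
  obtain ⟨hxM, hxf, hxp, hx1⟩ := xtop_facts (p := 2) hF hC hM hcert
  set x := xU D T (1 : k) with hx
  set z := g * x * g⁻¹ with hz
  have hzM : z ∈ M := M.mul_mem (M.mul_mem hg hxM) (M.inv_mem hg)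
  have hzn : z ∉ fixG D φ := fun h => hgn (fixed_of_conj hF hC hM hcert hZ hP hg hxM hxf hxp hx1 h)
  rw [pow_two] at hxp
  have hzz : z * z = 1 := by
    rw [hz, show g * x * g⁻¹ * (g * x * g⁻¹) = g * (x * x) * g⁻¹ by group, hxp]; group
  have h2 : ∀ r < D.nroots, xU D r (1 : k) * xU D r (1 : k) = 1 := fun r hr => by
    rw [hF.xU_add hr, CharTwo.add_self_eq_zero, hF.xU_zero hr]
  -- the root of a positive conjugate
  have key : ∀ i ∈ M, i ∈ fixG D φ → i ∈ UP D k → i * i = 1 → i ≠ 1 →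
      ∃ (l : List (Fin D.rank)) (c : k), D.nroots / 2 ≤ (sW D l ⟨T, hT'⟩).val ∧
        ∀ j : Fin D.rank, coord D j (hF.neg_lt (hF.simple_lt' j.isLt)) i =
          if (sW D l ⟨T, hT'⟩).val = D.simple j.val then c else 0 := by
    intro i hiM hif hiU hii hi1
    obtain ⟨d, hd, hdz⟩ := conj_of_invol hF hC hM hcert hT hP hZ hiM hif hii hi1 hzM hzn hzz
    have hgM : d * g ∈ M := M.mul_mem hd hg
    have hi : i = d * g * x * (d * g)⁻¹ := by rw [hdz, hz]; group
    obtain ⟨b, hb, n, hn, σ, hσ, u, hu, hbnu⟩ := hF.bruhat_exists hC (hM.le hgM)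
    obtain ⟨u1, hu1, h, hh, rfl⟩ := hF.mem_borel_iff.1 hb
    obtain ⟨l, k', hk', hlk⟩ := hF.exists_nW hn
    have hσl : σ = sW D l := by
      have := hF.permAct_mul (hF.permAct_nW (F := k) l) (hF.permAct_diagonal hk')
      rw [mul_one, ← hlk] at this
      exact hF.permAct_unique hσ this
    subst hσl
    obtain ⟨c, hc0, hcx, -⟩ := hσ ⟨T, hT'⟩
    obtain ⟨cc, hcc⟩ := hF.mem_diagonal_iff.1 hh
    set μ := (sW D l ⟨T, hT'⟩).val with hμ
    have hμn : μ < D.nroots := Fin.is_lt _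
    set t : k := ((∏ m ∈ Finset.range D.rank, cc m ^ D.cartan m μ : kˣ) : k) * c
    have hu' : u ∈ UP D k := rootClosure_mono (fun _ _ h => h.2.1) hu
    have hy : i = u1 * xU D μ t * u1⁻¹ := by
      have e : n * x * n⁻¹ = xU D μ c := by rw [hx, hcx 1, mul_one]
      have e2 : h * xU D μ c * h⁻¹ = xU D μ t := by rw [hcc, hF.hT_conj_xU cc hμn]
      rw [hi, hbnu, show u1 * h * n * u * x * (u1 * h * n * u)⁻¹ =
        u1 * (h * (n * (u * x * u⁻¹) * n⁻¹) * h⁻¹) * u1⁻¹ by group,
        hx, ← (top_commute hF hC hcert hu' 1).eq, mul_inv_cancel_right, ← hx, e, e2]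
    have hμp : D.nroots / 2 ≤ μ := by
      by_contra hneg
      have h5 : xU D μ t ∈ UP D k := by
        rw [show xU D μ t = u1⁻¹ * i * u1 by rw [hy]; group]
        exact Subgroup.mul_mem _ (Subgroup.mul_mem _ (Subgroup.inv_mem _ hu1) hiU) hu1
      have h6 : xU D μ t ∈ D.negUnipotent k := by
        rw [hF.negUnipotent_eq]
        exact xU_mem_rootClosure (P := (· < D.nroots / 2)) hμn (not_le.1 hneg) t
      have h4 : xU D μ t ∈ D.borelSubgroup k ⊓ D.negUnipotent k :=
        Subgroup.mem_inf.2 ⟨hF.pos_le_borel h5, h6⟩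
      rw [hF.borel_inf_neg, Subgroup.mem_bot] at h4
      rw [h4, mul_one, mul_inv_cancel] at hy
      exact hi1 hy
    refine ⟨l, t, hμp, fun j => ?_⟩
    have hU : xU D μ t ∈ UP D k := xU_mem_rootClosure hμn hμp t
    have h0 : coord D j (hF.neg_lt (hF.simple_lt' j.isLt)) (1 : GL D.Idx k) = 0 := by simp [coord]
    have h1 := coord_mul hF j hu1 (Subgroup.inv_mem _ hu1)
    rw [mul_inv_cancel, h0] at h1
    rw [hy, coord_mul hF j (Subgroup.mul_mem _ hu1 hU) (Subgroup.inv_mem _ hu1), coord_mul hF j hu1 hU,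
      coord_xU hF j hμn, add_right_comm, ← h1, zero_add]
  rcases hT.invol with ⟨a, b, ha, hb, hab, hcomm⟩ | ⟨L, j, hj, hTL, hjL, hclosed⟩
  · have hpa := hF.simple_lt a ha
    have hpb := hF.simple_lt b hb
    have hne : D.simple b ≠ D.simple a := fun e => hab (hF.simple_inj hb ha e).symm
    have hneg : D.simple b ≠ D.neg (D.simple a) := fun e => by
      have := (hF.neg_lt_half hpa.2).1 (e ▸ hpb.1)
      omega
    set A := xU D (D.simple a) (1 : k) with hA
    set B := xU D (D.simple b) (1 : k) with hB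
    have hAB : B * A = A * B := by
      rw [hA, hB, hF.xU_comm hC hpa.2 hpb.2 hne hneg, show cwR D (D.simple a) (D.simple b) (1 : k) 1 = [] by
        simp [cwR, hcomm]]
      simp [wU]
    have hiU : A * B ∈ UP D k :=
      Subgroup.mul_mem _ (xU_mem_rootClosure hpa.2 hpa.1 _) (xU_mem_rootClosure hpb.2 hpb.1 _)
    have hco : ∀ j : Fin D.rank, coord D j (hF.neg_lt (hF.simple_lt' j.isLt)) (A * B) =
        (if D.simple a = D.simple j.val then (1 : k) else 0) + if D.simple b = D.simple j.val then 1 else 0 :=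
      fun j => by
        rw [hA, hB, coord_mul hF j (xU_mem_rootClosure hpa.2 hpa.1 _) (xU_mem_rootClosure hpb.2 hpb.1 _),
          coord_xU hF j hpa.2, coord_xU hF j hpb.2]
    have hca := hco ⟨a, ha⟩
    have hcb := hco ⟨b, hb⟩
    rw [if_pos rfl, if_neg hne, add_zero] at hca
    rw [if_neg (Ne.symm hne), if_pos rfl, zero_add] at hcb
    have hii : A * B * (A * B) = 1 := by
      rw [show A * B * (A * B) = A * (B * A) * B by group, hAB,
        show A * (A * B) * B = (A * A) * (B * B) by group, hA, hB, h2 _ hpa.2, h2 _ hpb.2, mul_one]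
    obtain ⟨l, c, -, hl⟩ := key (A * B) (M.mul_mem (gen_one hF hM hpa.2) (gen_one hF hM hpb.2))
      (Subgroup.mul_mem _ (xU_mem_fixG hF hpa.2 (map_one φ)) (xU_mem_fixG hF hpb.2 (map_one φ))) hiU hii
      (fun e => by rw [e] at hca; simp [coord] at hca)
    have e1 := hl ⟨a, ha⟩
    have e2 := hl ⟨b, hb⟩
    rw [hca] at e1
    rw [hcb] at e2
    by_cases q1 : (sW D l ⟨T, hT'⟩).val = D.simple a
    · rw [if_neg (fun q2 => hne (q2.symm.trans q1))] at e2
      exact one_ne_zero e2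
    · rw [if_neg q1] at e1
      exact one_ne_zero e1
  · have hp := hF.simple_lt j hj
    obtain ⟨l, c, -, hl⟩ := key (xU D (D.simple j) (1 : k)) (gen_one hF hM hp.2)
      (xU_mem_fixG hF hp.2 (map_one φ)) (xU_mem_rootClosure hp.2 hp.1 _) (h2 _ hp.2)
      (fun e => one_ne_zero (hF.xU_eq_one hp.2 e))
    have e := hl ⟨j, hj⟩
    rw [coord_xU hF _ hp.2, if_pos rfl] at e
    split_ifs at e with q
    · have hmem : ∀ l : List (Fin D.rank), (sW D l ⟨T, hT'⟩).val ∈ L := by
        intro l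
        induction l with
        | nil => rw [sW_nil]; exact hTL
        | cons i l ih =>
          rw [sW_cons, Equiv.Perm.mul_apply, hF.sP_val]
          exact hclosed i.val i.isLt _ ih
      exact hjL (q ▸ hmem l)
    · exact one_ne_zero e

end CfsgLib.Chev.Over
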