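/-
The root parameters in `M`: independence of the root, closure under products.
-/
import Cfsg.Agent.Lib.Chev.Overgroup.Basic
import Mathlib.FieldTheory.Finite.Basic

set_option autoImplicit false
set_option linter.unusedSectionVars false

namespace CfsgLib.Chev.Over

open Cfsg.Lie CfsgLib.Chev.FixedPoints

universe v

variable {D : ChevalleyDatum} {co : ℕ → ℕ → ℤ} {k : Type v} [Field k]

/-- The parameters of the root `r` in `M`. -/
def Par (D : ChevalleyDatum) (M : Subgroup (GL D.Idx k)) (r : ℕ) : Set k := {t | xU D r t ∈ M}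

theorem mem_Par {M : Subgroup (GL D.Idx k)} {r : ℕ} {t : k} : t ∈ Par D M r ↔ xU D r t ∈ M := Iff.rfl

variable (hF : Facts D co) {φ : k →+* k} {M : Subgroup (GL D.Idx k)} (hM : Ov D φ M)
include hF hM

theorem Par_add {r : ℕ} (hr : r < D.nroots) {a b : k} (ha : a ∈ Par D M r) (hb : b ∈ Par D M r) :
    a + b ∈ Par D M r := by
  rw [mem_Par, ← hF.xU_add hr]; exact M.mul_mem ha hb

theorem Par_zero {r : ℕ} (hr : r < D.nroots) : (0 : k) ∈ Par D M r := by
  rw [mem_Par, hF.xU_zero hr]; exact M.one_mem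

theorem Par_neg {r : ℕ} (hr : r < D.nroots) {a : k} (ha : a ∈ Par D M r) : -a ∈ Par D M r := by
  rw [mem_Par, ← hF.xU_inv hr]; exact M.inv_mem ha

theorem Par_sub {r : ℕ} (hr : r < D.nroots) {a b : k} (ha : a ∈ Par D M r) (hb : b ∈ Par D M r) :
    a - b ∈ Par D M r := sub_eq_add_neg a b ▸ Par_add hF hM hr ha (Par_neg hF hM hr hb)

theorem Par_one {r : ℕ} (hr : r < D.nroots) : (1 : k) ∈ Par D M r := gen_one hF hM hr

theorem Par_int {r : ℕ} (hr : r < D.nroots) {a : k} (ha : a ∈ Par D M r) {C : ℤ} (hC : C = 1 ∨ C = -1) :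
    ((C : k) * a ∈ Par D M r) := by
  rcases hC with rfl | rfl
  · simpa using ha
  · simpa using Par_neg hF hM hr ha

theorem Par_of_int {r : ℕ} (hr : r < D.nroots) {a : k} {C : ℤ} (hC : C = 1 ∨ C = -1)
    (ha : (C : k) * a ∈ Par D M r) : a ∈ Par D M r := by
  have h := Par_int hF hM hr ha hC
  rcases hC with rfl | rfl <;> simpa using h

theorem Par_finite [Finite M] {r : ℕ} (hr : r < D.nroots) : (Par D M r).Finite := by
  haveI : Finite (Par D M r) := Finite.of_injective (fun t : Par D M r => (⟨xU D r t.1, t.2⟩ : M))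
    fun a b e => Subtype.ext (hF.xU_left_inj hr (congrArg Subtype.val e))
  exact Set.toFinite _

theorem Par_of_refl {i r s : ℕ} (hi : i < D.rank) (hr : r < D.nroots) (h : D.reflectRoot i r = s) :
    Par D M s = Par D M r := by
  subst h
  exact Set.ext fun t => xU_refl_iff hF hM hi hr t

/-- Adjacent fundamental roots of equal length have the same parameters. -/
theorem Par_edge {i j : ℕ} (hi : i < D.rank) (hj : j < D.rank)
    (h1 : D.cartan i (D.simple j) = -1) (h2 : D.cartan j (D.simple i) = -1) :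
    Par D M (D.simple i) = Par D M (D.simple j) := by
  have e : D.reflectRoot i (D.simple j) = D.reflectRoot j (D.simple i) := by
    refine hF.root_ext (hF.refl_lt i hi _ (hF.simple_lt' hj)) (hF.refl_lt j hj _ (hF.simple_lt' hi)) fun m hm => ?_
    rw [hF.co_refl i hi _ (hF.simple_lt' hj) m hm, hF.co_refl j hj _ (hF.simple_lt' hi) m hm,
      hF.co_simple j hj m hm, hF.co_simple i hi m hm, h1, h2]
    split_ifs <;> omega
  rw [← Par_of_refl hF hM hi (hF.simple_lt' hj) e, Par_of_refl hF hM hj (hF.simple_lt' hi) rfl]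

/-- Every root has the parameters of a fundamental root. -/
theorem Par_simple {r : ℕ} (hr : r < D.nroots) : ∃ i < D.rank, Par D M r = Par D M (D.simple i) :=
  hF.root_induction (P := fun r => ∃ i < D.rank, Par D M r = Par D M (D.simple i))
    (fun i hi => ⟨i, hi, rfl⟩)
    (fun i hi s hs ⟨j, hj, e⟩ => ⟨j, hj, (Par_of_refl hF hM hi hs rfl).trans e⟩) hr

/-- A set closed under differences and products and containing one is, if finite, a subfield. -/
theorem exists_subfield {A : Set k} (hA : A.Finite) (h1 : (1 : k) ∈ A)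
    (hsub : ∀ a ∈ A, ∀ b ∈ A, a - b ∈ A) (hmul : ∀ a ∈ A, ∀ b ∈ A, a * b ∈ A) :
    ∃ S : Subfield k, Finite S ∧ (S : Set k) = A := by
  have _ := hF
  have _ := hM
  have h0 : (0 : k) ∈ A := sub_self (1 : k) ▸ hsub 1 h1 1 h1
  have hneg : ∀ a ∈ A, -a ∈ A := fun a ha => zero_sub a ▸ hsub 0 h0 a ha
  have hinv : ∀ a ∈ A, a⁻¹ ∈ A := by
    intro a ha
    by_cases ha0 : a = 0
    · rw [ha0, inv_zero]; exact h0
    haveI := hA.to_subtype
    have hinj : Function.Injective (fun b : A => (⟨a * b.1, hmul a ha _ b.2⟩ : A)) := fun b c e =>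
      Subtype.ext (mul_left_cancel₀ ha0 (congrArg Subtype.val e))
    obtain ⟨b, hb⟩ := (Finite.injective_iff_surjective.1 hinj) ⟨1, h1⟩
    rw [inv_eq_of_mul_eq_one_right (congrArg Subtype.val hb)]
    exact b.2
  refine ⟨{ carrier := A
            one_mem' := h1
            zero_mem' := h0
            mul_mem' := fun {a b} ha hb => hmul a ha b hb
            add_mem' := fun {a b} ha hb => sub_neg_eq_add a b ▸ hsub a ha _ (hneg b hb)
            neg_mem' := fun {a} ha => hneg a ha
            inv_mem' := hinv }, hA.to_subtype, rfl⟩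

variable (hC : CommF.{v} D)
include hC

/-- The commutator of two root elements of `M`. -/
theorem comm_word_mem {r s : ℕ} (hr : r < D.nroots) (hs : s < D.nroots) (hne : s ≠ r) (hneg : s ≠ D.neg r)
    {a b : k} (ha : a ∈ Par D M r) (hb : b ∈ Par D M s) : wU D (cwR D r s a b) ∈ M := by
  have h := hF.xU_comm hC hr hs hne hneg a b
  rw [show wU D (cwR D r s a b) = (xU D r a * xU D s b)⁻¹ * (xU D s b * xU D r a) by rw [h]; group]
  exact M.mul_mem (M.inv_mem (M.mul_mem ha hb)) (M.mul_mem hb ha)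

/-- The products of the parameters of two roots with root sum. -/
theorem Par_mul {r s K : ℕ} {C : ℤ} (hr : r < D.nroots) (hs : s < D.nroots) (hne : s ≠ r)
    (hneg : s ≠ D.neg r) (hT : D.commTerms r s = [(K, C, 1, 1)]) (hC1 : C = 1 ∨ C = -1)
    {a b : k} (ha : a ∈ Par D M r) (hb : b ∈ Par D M s) : a * b ∈ Par D M K := by
  have hK : K < D.nroots :=
    (hF.commTerms_wt hF.isWeight_omega hr hs (c := (K, C, 1, 1)) (by simp [hT])).1
  have h := comm_word_mem hF hM hC hr hs hne hneg (Par_neg hF hM hr ha) hb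
  simp only [cwR, hT, List.map_cons, List.map_nil, wU, List.prod_cons, List.prod_nil, mul_one,
    pow_one, _root_.neg_neg, mul_assoc] at h
  exact Par_of_int hF hM hK hC1 h

/-- A long and a short fundamental root, chains of length two. -/
theorem Par_mixed {l s : ℕ} {C C' : ℤ} {K K' : ℕ} (hl : l < D.rank) (hs : s < D.rank) (hne : l ≠ s)
    (hK : D.reflectRoot l (D.simple s) = K) (hK' : D.reflectRoot s (D.simple l) = K')
    (hT : D.commTerms (D.simple l) (D.simple s) = [(K, C, 1, 1), (K', C', 1, 2)])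
    (hC1 : C = 1 ∨ C = -1) (hC2 : C' = 1 ∨ C' = -1) :
    Par D M (D.simple l) ⊆ Par D M (D.simple s) ∧
      ∀ c ∈ Par D M (D.simple s), c ^ 2 ∈ Par D M (D.simple l) := by
  have hpl := hF.simple_lt l hl
  have hps := hF.simple_lt s hs
  have e1 : Par D M K = Par D M (D.simple s) := Par_of_refl hF hM hl hps.2 hK
  have e2 : Par D M K' = Par D M (D.simple l) := Par_of_refl hF hM hs hpl.2 hK'
  have hKn : K < D.nroots := hK ▸ hF.refl_lt l hl _ hps.2
  have hKn' : K' < D.nroots := hK' ▸ hF.refl_lt s hs _ hpl.2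
  have hne' : D.simple s ≠ D.simple l := fun e => hne (hF.simple_inj hs hl e).symm
  have hneg : D.simple s ≠ D.neg (D.simple l) := fun e => by
    have := (hF.neg_lt_half hpl.2).1 (e ▸ hps.1)
    omega
  have key : ∀ a ∈ Par D M (D.simple l), ∀ b ∈ Par D M (D.simple s),
      xU D K ((C : k) * (a * b)) * xU D K' ((C' : k) * (a * b ^ 2)) ∈ M := fun a ha b hb => by
    have h := comm_word_mem hF hM hC hpl.2 hps.2 hne' hneg (Par_neg hF hM hpl.2 ha) hb
    simp only [cwR, hT, List.map_cons, List.map_nil, wU, List.prod_cons, List.prod_nil, mul_one,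
      pow_one, _root_.neg_neg, mul_assoc] at h
    exact h
  refine ⟨fun a ha => ?_, fun c hc => ?_⟩
  · have h := key a ha 1 (Par_one hF hM hps.2)
    rw [one_pow, mul_one] at h
    have h2 : xU D K' ((C' : k) * a) ∈ M := Par_int hF hM hKn' (e2 ▸ ha : a ∈ Par D M K') hC2
    rw [M.mul_mem_cancel_right h2] at h
    exact e1 ▸ Par_of_int hF hM hKn hC1 h
  · have h := key 1 (Par_one hF hM hpl.2) c hc
    rw [one_mul, one_mul] at h
    have h2 : xU D K ((C : k) * c) ∈ M := Par_int hF hM hKn (e1 ▸ hc : c ∈ Par D M K) hC1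
    rw [M.mul_mem_cancel_left h2] at h
    exact e2 ▸ Par_of_int hF hM hKn' hC2 h

omit hC in
/-- An element whose square-translates lie in a finite subfield lies in it. -/
theorem mem_of_sq {p : ℕ} [Fact p.Prime] [CharP k p] {S : Subfield k} [Finite S] {c : k}
    (h0 : c ^ 2 ∈ S) (h1 : (c + 1) ^ 2 ∈ S) : c ∈ S := by
  have _ := hF
  have _ := hM
  by_cases hp : p = 2
  · subst hp
    haveI : CharP S 2 := ⟨fun n => by
      rw [← CharP.cast_eq_zero_iff k 2 n]
      exact ⟨fun h => by simpa using congrArg Subtype.val h, fun h => Subtype.ext (by simpa using h)⟩⟩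
    obtain ⟨e, he⟩ := Finite.injective_iff_surjective.1 (frobenius_inj S 2) ⟨c ^ 2, h0⟩
    have he' : (e : k) ^ 2 = c ^ 2 := by
      have := congrArg Subtype.val he
      simpa [frobenius_def] using this
    have : (e : k) = c := frobenius_inj k 2 (by simpa [frobenius_def] using he')
    exact this ▸ e.2
  · have h2 : (2 : k) ≠ 0 := fun h => hp ((Nat.prime_dvd_prime_iff_eq Fact.out Nat.prime_two).1
      ((CharP.cast_eq_zero_iff k p 2).1 (by exact_mod_cast h)))
    have h2S : (2 : k) ∈ S := by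
      rw [← one_add_one_eq_two]; exact S.add_mem S.one_mem S.one_mem
    have h3 : 2 * c ∈ S := by
      rw [show 2 * c = (c + 1) ^ 2 - c ^ 2 - 1 by ring]
      exact S.sub_mem (S.sub_mem h1 h0) S.one_mem
    have := S.mul_mem (S.inv_mem h2S) h3
    rwa [inv_mul_cancel_left₀ h2] at this

end CfsgLib.Chev.Over
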