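/-
The root parameters in `M` form a subfield, and the central positive elements of `M`, for the seven data.
-/
import Cfsg.Agent.Lib.Chev.Overgroup.Params
import Cfsg.Agent.Lib.Chev.Overgroup.Sweep

set_option autoImplicit false
set_option maxRecDepth 20000
set_option linter.unusedSectionVars false

namespace CfsgLib.Chev.Over

open Cfsg.Lie CfsgLib.Chev.FixedPoints

universe v

variable {D : ChevalleyDatum} {co : ℕ → ℕ → ℤ} {k : Type v} [Field k]
  (hF : Facts D co) (hC : CommF.{v} D) {φ : k →+* k} {M : Subgroup (GL D.Idx k)} (hM : Ov D φ M)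
include hF hC hM

/-- The parameters form a finite subfield. -/
def HasParField (D : ChevalleyDatum) (M : Subgroup (GL D.Idx k)) : Prop :=
  ∃ S : Subfield k, Finite S ∧ ∀ r < D.nroots, Par D M r = (S : Set k)

omit hC in
theorem parField_of_simple {S : Subfield k} (hS : Finite S)
    (h : ∀ i < D.rank, Par D M (D.simple i) = (S : Set k)) : HasParField D M :=
  ⟨S, hS, fun r hr => by
    obtain ⟨i, hi, e⟩ := Par_simple hF hM hr
    exact e.trans (h i hi)⟩

/-- The ring structure from a pair of roots with parameters `A` and root sum. -/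
theorem exists_field_of_pair [Finite M] {r s K : ℕ} {C : ℤ} (hr : r < D.nroots) (hs : s < D.nroots)
    (hne : s ≠ r) (hneg : s ≠ D.neg r) (hT : D.commTerms r s = [(K, C, 1, 1)]) (hC1 : C = 1 ∨ C = -1)
    (hrs : Par D M s = Par D M r) (hrK : Par D M K = Par D M r) :
    ∃ S : Subfield k, Finite S ∧ (S : Set k) = Par D M r :=
  exists_subfield hF hM (Par_finite hF hM hr) (Par_one hF hM hr) (fun _ ha _ hb => Par_sub hF hM hr ha hb)
    fun a ha b hb => hrK ▸ Par_mul hF hM hC hr hs hne hneg hT hC1 ha (hrs ▸ hb : b ∈ Par D M s)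

/-- Simply laced data. -/
theorem parField_laced [Finite M] (ord : ℕ → ℕ) (hsteps : ∀ i < D.rank, i ≠ 0 → ∃ j < D.rank, ord j < ord i ∧
      D.cartan i (D.simple j) = -1 ∧ D.cartan j (D.simple i) = -1)
    {i j K : ℕ} {C : ℤ} (hi : i < D.rank) (hj : j < D.rank) (hne : i ≠ j)
    (hK : D.reflectRoot i (D.simple j) = K)
    (hT : D.commTerms (D.simple i) (D.simple j) = [(K, C, 1, 1)]) (hC1 : C = 1 ∨ C = -1) :
    HasParField D M := by
  have hall : ∀ m < D.rank, Par D M (D.simple m) = Par D M (D.simple 0) := by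
    intro m
    induction m using (measure ord).wf.induction with
    | _ m ih =>
      intro hm
      by_cases h0 : m = 0
      · rw [h0]
      · obtain ⟨q, hq, hlt, h1, h2⟩ := hsteps m hm h0
        rw [Par_edge hF hM hm hq h1 h2, ih q hlt hq]
  have hpi := hF.simple_lt i hi
  have hpj := hF.simple_lt j hj
  have hne' : D.simple j ≠ D.simple i := fun e => hne (hF.simple_inj hj hi e).symm
  have hneg : D.simple j ≠ D.neg (D.simple i) := fun e => by
    have := (hF.neg_lt_half hpi.2).1 (e ▸ hpj.1)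
    omega
  obtain ⟨S, hS, e⟩ := exists_field_of_pair hF hC hM hpi.2 hpj.2 hne' hneg hT hC1
    ((hall j hj).trans (hall i hi).symm)
    ((Par_of_refl hF hM hi hpj.2 hK).trans ((hall j hj).trans (hall i hi).symm))
  exact parField_of_simple hF hM hS fun m hm => by rw [e, hall m hm, hall i hi]

omit hC in
/-- The short parameters agree with the long ones. -/
theorem short_eq {p : ℕ} [Fact p.Prime] [CharP k p] {l s : ℕ} {S : Subfield k} (hS : Finite S)
    (e : (S : Set k) = Par D M l) (hs : s < D.nroots) (h1 : Par D M l ⊆ Par D M s)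
    (h2 : ∀ c ∈ Par D M s, c ^ 2 ∈ Par D M l) : Par D M s = (S : Set k) := by
  refine Set.Subset.antisymm (fun c hc => ?_) (e ▸ h1)
  rw [← e] at h2
  exact mem_of_sq hF hM (p := p) (h2 c hc) (h2 _ (Par_add hF hM hs hc (Par_one hF hM hs)))

/-- The central elements, when only the highest root is central. -/
theorem cen_fixed_top {sp : Option (ℕ × ℕ)} (hRat : Rat D φ M)
    (hsp : ∀ l s, sp = some (l, s) → (l : k) ≠ 0) {v : GL D.Idx k} (hvM : v ∈ M)
    (hv : v ∈ rootClosure D k (CenR D sp k)) : v ∈ fixG D φ := by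
  have hT' := TopRoot.top_lt hF
  obtain ⟨d, rfl⟩ : ∃ d, v = xU D (D.nroots - 1) d := by
    clear hvM
    induction hv using Subgroup.closure_induction with
    | mem x hx =>
      obtain ⟨r, t, hr, ⟨-, hP⟩, rfl⟩ := hx
      rcases hP with rfl | ⟨l, hl, hl0⟩
      · exact ⟨t, rfl⟩
      · exact absurd hl0 (hsp l r hl)
    | one => exact ⟨0, (hF.xU_zero hT').symm⟩
    | mul x y _ _ hx hy =>
      obtain ⟨a, rfl⟩ := hx
      obtain ⟨b, rfl⟩ := hy
      exact ⟨a + b, hF.xU_add hT' a b⟩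
    | inv x _ hx =>
      obtain ⟨a, rfl⟩ := hx
      exact ⟨-a, hF.xU_inv hT' a⟩
  exact xU_mem_fixG hF hT' (hRat _ hT' d hvM)

omit hM in
/-- The form of the central elements. -/
theorem cen_form {l s : ℕ} (hcert : Cert D (some (l, s))) (hl0 : (l : k) = 0) {v : GL D.Idx k}
    (hv : v ∈ rootClosure D k (CenR D (some (l, s)) k)) :
    ∃ c d, v = xU D s c * xU D (D.nroots - 1) d := by
  have hT' := TopRoot.top_lt hF
  obtain ⟨hs, hsp, -⟩ := hcert.spec l s rfl
  have hcomm : ∀ (c d : k), Commute (xU D s c) (xU D (D.nroots - 1) d) := fun c d =>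
    cen_commute hF hC hcert hs ⟨hsp, Or.inr ⟨l, rfl, hl0⟩⟩ c (xU_mem_rootClosure hT' (TopRoot.top_pos hF) d)
  induction hv using Subgroup.closure_induction with
  | mem x hx =>
    obtain ⟨r, t, hr, ⟨-, hP⟩, rfl⟩ := hx
    rcases hP with rfl | ⟨l', hl, -⟩
    · exact ⟨0, t, by rw [hF.xU_zero hs, one_mul]⟩
    · obtain ⟨-, rfl⟩ := Prod.mk.injEq _ _ _ _ ▸ Option.some.inj hl
      exact ⟨t, 0, by rw [hF.xU_zero hT', mul_one]⟩
  | one => exact ⟨0, 0, by rw [hF.xU_zero hs, hF.xU_zero hT', one_mul]⟩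
  | mul x y _ _ hx hy =>
    obtain ⟨a, b, rfl⟩ := hx
    obtain ⟨a', b', rfl⟩ := hy
    refine ⟨a + a', b + b', ?_⟩
    rw [mul_assoc, ← mul_assoc (xU D (D.nroots - 1) b), ← (hcomm a' b).eq, mul_assoc,
      hF.xU_add hT', ← mul_assoc, hF.xU_add hs]
  | inv x _ hx =>
    obtain ⟨a, b, rfl⟩ := hx
    refine ⟨-a, -b, ?_⟩
    rw [mul_inv_rev, hF.xU_inv hs, hF.xU_inv hT', (hcomm (-a) (-b)).eq]

/-- The central elements, with a negative root moving the highest root only. -/
theorem cen_fixed_pair {l s b μ : ℕ} {C : ℤ} (hcert : Cert D (some (l, s))) (hRat : Rat D φ M)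
    (hb : b < D.nroots) (hb1 : s ≠ b ∧ s ≠ D.neg b) (hb2 : D.nroots - 1 ≠ b ∧ D.nroots - 1 ≠ D.neg b)
    (hbs : D.commTerms b s = []) (hbT : D.commTerms b (D.nroots - 1) = [(μ, C, 1, 1)]) (hC1 : C = 1 ∨ C = -1)
    {v : GL D.Idx k} (hvM : v ∈ M) (hv : v ∈ rootClosure D k (CenR D (some (l, s)) k)) : v ∈ fixG D φ := by
  by_cases hl0 : (l : k) = 0
  swap
  · exact cen_fixed_top hF hC hM hRat (fun l' s' e => by cases e; exact hl0) hvM hv
  obtain ⟨c, d, rfl⟩ := cen_form hF hC hcert hl0 hv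
  have hs := (hcert.spec l s rfl).1
  have hT' := TopRoot.top_lt hF
  have hμ : μ < D.nroots :=
    (hF.commTerms_wt hF.isWeight_omega hb hT' (c := (μ, C, 1, 1)) (by simp [hbT])).1
  have h1 : Commute (xU D s c) (xU D b (1 : k)) := by
    show _ = _
    rw [hF.xU_comm hC hb hs hb1.1 hb1.2, show cwR D b s (1 : k) c = [] by simp [cwR, hbs]]
    simp [wU]
  have h2 : xU D (D.nroots - 1) d * xU D b (1 : k) =
      xU D b (1 : k) * xU D (D.nroots - 1) d * xU D μ ((C : k) * -d) := by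
    rw [hF.xU_comm hC hb hT' hb2.1 hb2.2]
    simp [cwR, hbT, wU]
  have e : (xU D s c * xU D (D.nroots - 1) d)⁻¹ * (xU D b (1 : k))⁻¹ *
      (xU D s c * xU D (D.nroots - 1) d) * xU D b (1 : k) = xU D μ ((C : k) * -d) := by
    rw [mul_assoc ((xU D s c * xU D (D.nroots - 1) d)⁻¹ * (xU D b (1 : k))⁻¹),
      mul_assoc (xU D s c) (xU D (D.nroots - 1) d), h2, ← mul_assoc (xU D s c), ← mul_assoc (xU D s c), h1.eq]
    group
  have hbM := gen_one hF hM hb
  have hm : xU D μ ((C : k) * -d) ∈ M := e ▸ M.mul_mem (M.mul_mem (M.mul_mem (M.inv_mem hvM) (M.inv_mem hbM)) hvM) hbM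
  have hd : φ d = d := by
    have := hRat μ hμ _ (Par_of_int hF hM hμ hC1 hm)
    rwa [map_neg, neg_inj] at this
  have hθ : xU D (D.nroots - 1) d ∈ M := hM.gen _ hT' d hd
  exact Subgroup.mul_mem _ (xU_mem_fixG hF hs (hRat s hs c ((M.mul_mem_cancel_right hθ).1 hvM)))
    (xU_mem_fixG hF hT' hd)

end CfsgLib.Chev.Over
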