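/-
The parameters for type B2.
-/
import Cfsg.Agent.Lib.Chev.Overgroup.Types

set_option autoImplicit false
set_option maxRecDepth 20000
set_option linter.unusedSectionVars false

namespace CfsgLib.Chev.Over

open Cfsg.Lie CfsgLib.Chev.FixedPoints

universe v

variable {k : Type v} [Field k] {φ : k →+* k} {co : ℕ → ℕ → ℤ}
  (hF : Facts chevB2 co) (hC : CommF.{v} chevB2) {M : Subgroup (GL chevB2.Idx k)} (hM : Ov chevB2 φ M)
include hF hC hM

theorem B2_mixed : Par chevB2 M 4 ⊆ Par chevB2 M 5 ∧ ∀ c ∈ Par chevB2 M 5, c ^ 2 ∈ Par chevB2 M 4 := by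
  have h := Par_mixed hF hM hC (l := 1) (s := 0) (C := 1) (C' := -1) (K := 6) (K' := 7) (by decide) (by decide)
    (by decide) (by decide +kernel) (by decide +kernel) (by decide +kernel) (Or.inl rfl) (Or.inr rfl)
  rwa [show chevB2.simple 1 = 4 by decide +kernel, show chevB2.simple 0 = 5 by decide +kernel] at h

section Two

variable [CharP k 2] [Finite M]

/-- In characteristic two `M ∩ X₆X₇` is the product of its factors. -/
theorem B2_two : (∀ c d, xU chevB2 6 c * xU chevB2 7 d ∈ M →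
      c ∈ Par chevB2 M 5 ∧ d ∈ Par chevB2 M 4) ∧
    ∀ a ∈ Par chevB2 M 4, ∀ b ∈ Par chevB2 M 4, a * b ∈ Par chevB2 M 4 := by
  have n : ∀ r : ℕ, r < 8 → r < chevB2.nroots := fun r hr => hr
  have r0 : (0 : ℕ) < chevB2.rank := by decide
  have r1 : (1 : ℕ) < chevB2.rank := by decide
  have A6 : Par chevB2 M 6 = Par chevB2 M 5 := Par_of_refl hF hM r1 (n 5 (by omega)) (by decide +kernel)
  have A7 : Par chevB2 M 7 = Par chevB2 M 4 := Par_of_refl hF hM r0 (n 4 (by omega)) (by decide +kernel)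
  obtain ⟨hls, hsl⟩ := B2_mixed hF hC hM
  -- reflections preserve parameters
  have conjS : ∀ (i : ℕ) (hi : i < chevB2.rank) (r : ℕ), r < 8 → ∀ a : k,
      nS chevB2 k ⟨i, hi⟩ * xU chevB2 r a * (nS chevB2 k ⟨i, hi⟩)⁻¹ =
        xU chevB2 (chevB2.reflectRoot i r) a := by
    intro i hi r hr a
    obtain ⟨η, h1, -, h3⟩ := hF.exists_eta (F := k) hi
    rw [nS, h3 r (n r hr), mul_inv_cancel_right]
    rcases h1 r (n r hr) with h | h <;> simp [h, CharTwo.neg_eq]
  have conjM : ∀ (i : ℕ) (hi : i < chevB2.rank) (r s : ℕ), r < 8 → s < 8 → ∀ r' s' : ℕ,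
      chevB2.reflectRoot i r = r' → chevB2.reflectRoot i s = s' → ∀ a b : k,
      xU chevB2 r a * xU chevB2 s b ∈ M → xU chevB2 r' a * xU chevB2 s' b ∈ M := by
    intro i hi r s hr hs r' s' er es a b h
    have hn : nS chevB2 k ⟨i, hi⟩ ∈ M := nS_mem_M hF hM ⟨i, hi⟩
    rw [← er, ← es, ← conjS i hi r hr, ← conjS i hi s hs]
    have := M.mul_mem (M.mul_mem hn h) (M.inv_mem hn)
    convert this using 1
    group
  set Δ : Set k := {d | xU chevB2 6 d * xU chevB2 7 d ∈ M} with hΔ
  have cw : ∀ r s : ℕ, r < 8 → s < 8 → s ≠ r → s ≠ chevB2.neg r → ∀ a b : k,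
      xU chevB2 s b * xU chevB2 r a =
        xU chevB2 r a * xU chevB2 s b * wU chevB2 (cwR chevB2 r s a b) :=
    fun r s hr hs h1 h2 a b => hF.xU_comm hC (n r hr) (n s hs) h1 h2 a b
  have two0 : ((2 : ℤ) : k) = 0 := by rw [Int.cast_ofNat]; exact CharTwo.two_eq_zero
  have t67 : ∀ a b : k, xU chevB2 7 b * xU chevB2 6 a = xU chevB2 6 a * xU chevB2 7 b := fun a b => by
    rw [cw 6 7 (by omega) (by omega) (by decide) (by decide +kernel),
      show cwR chevB2 6 7 a b = [] by simp [cwR, show chevB2.commTerms 6 7 = [] by decide +kernel]]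
    simp [wU]
  -- rule one
  have R1 : ∀ c d, xU chevB2 6 c * xU chevB2 7 d ∈ M → d ∈ Δ := by
    intro c d h
    have h2 := gen_one hF hM (r := 2) (n 2 (by omega))
    have e6 : xU chevB2 6 c * xU chevB2 2 (1 : k) = xU chevB2 2 (1 : k) * xU chevB2 6 c := by
      rw [cw 2 6 (by omega) (by omega) (by decide) (by decide +kernel)]
      simp [cwR, show chevB2.commTerms 2 6 = [(4, -2, 1, 1)] by decide +kernel, wU, CharTwo.two_eq_zero,
        hF.xU_zero (n 4 (by omega))]
    have e7 : xU chevB2 7 d * xU chevB2 2 (1 : k) =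
        xU chevB2 2 (1 : k) * xU chevB2 7 d * (xU chevB2 6 d * xU chevB2 4 d) := by
      rw [cw 2 7 (by omega) (by omega) (by decide) (by decide +kernel)]
      simp [cwR, show chevB2.commTerms 2 7 = [(6, 1, 1, 1), (4, -1, 2, 1)] by decide +kernel, wU,
        CharTwo.neg_eq]
    have e : xU chevB2 6 c * xU chevB2 7 d * xU chevB2 2 (1 : k) =
        xU chevB2 2 (1 : k) * (xU chevB2 6 c * xU chevB2 7 d) * (xU chevB2 6 d * xU chevB2 4 d) := by
      rw [mul_assoc, e7, ← mul_assoc, ← mul_assoc (xU chevB2 6 c), e6]; group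
    have h3 := M.mul_mem h h2
    rw [e, M.mul_mem_cancel_left (M.mul_mem h2 h)] at h3
    exact conjM 0 r0 6 4 (by omega) (by omega) 6 7 (by decide +kernel) (by decide +kernel) d d h3
  -- rule two
  have R2 : ∀ d ∈ Δ, d ^ 2 ∈ Δ ∧ d + d ^ 2 ∈ Par chevB2 M 4 := by
    intro d hd
    have h3 := gen_one hF hM (r := 3) (n 3 (by omega))
    have e7 : xU chevB2 7 d * xU chevB2 3 (1 : k) = xU chevB2 3 (1 : k) * xU chevB2 7 d := by
      rw [cw 3 7 (by omega) (by omega) (by decide) (by decide +kernel),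
        show cwR chevB2 3 7 (1 : k) d = [] by simp [cwR, show chevB2.commTerms 3 7 = [] by decide +kernel]]
      simp [wU]
    have e6 : xU chevB2 6 d * xU chevB2 3 (1 : k) =
        xU chevB2 3 (1 : k) * xU chevB2 6 d * (xU chevB2 5 d * xU chevB2 7 (d ^ 2)) := by
      rw [cw 3 6 (by omega) (by omega) (by decide) (by decide +kernel)]
      simp [cwR, show chevB2.commTerms 3 6 = [(5, 1, 1, 1), (7, 1, 1, 2)] by decide +kernel, wU,
        CharTwo.neg_eq]
    have e : xU chevB2 6 d * xU chevB2 7 d * xU chevB2 3 (1 : k) * (xU chevB2 7 d)⁻¹ =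
        xU chevB2 3 (1 : k) * xU chevB2 6 d * (xU chevB2 5 d * xU chevB2 7 (d ^ 2)) := by
      rw [mul_assoc (xU chevB2 6 d), e7, ← mul_assoc, e6, mul_inv_cancel_right]
    have e5 : Commute (xU chevB2 7 d) (xU chevB2 5 d * xU chevB2 7 (d ^ 2)) := by
      refine Commute.mul_right ?_ ?_
      · show _ = _
        rw [cw 5 7 (by omega) (by omega) (by decide) (by decide +kernel),
          show cwR chevB2 5 7 d d = [] by simp [cwR, show chevB2.commTerms 5 7 = [] by decide +kernel]]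
        simp [wU]
      · show _ = _
        rw [hF.xU_add (n 7 (by omega)), hF.xU_add (n 7 (by omega)), add_comm]
    have h4 := M.mul_mem hd h3
    rw [show xU chevB2 6 d * xU chevB2 7 d * xU chevB2 3 (1 : k) =
        xU chevB2 3 (1 : k) * (xU chevB2 6 d * xU chevB2 7 d) * (xU chevB2 5 d * xU chevB2 7 (d ^ 2)) by
      rw [mul_assoc (xU chevB2 3 (1 : k)), mul_assoc (xU chevB2 6 d) (xU chevB2 7 d) (_ * _), e5.eq,
        ← mul_assoc (xU chevB2 6 d), ← mul_assoc (xU chevB2 3 (1 : k)),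
        ← mul_assoc (xU chevB2 3 (1 : k)) (xU chevB2 6 d), ← e, inv_mul_cancel_right],
      M.mul_mem_cancel_left (M.mul_mem h3 hd)] at h4
    have h5 := conjM 1 r1 5 7 (by omega) (by omega) 6 7 (by decide +kernel) (by decide +kernel) _ _ h4
    refine ⟨R1 _ _ h5, ?_⟩
    rw [← A7, mem_Par]
    have := M.mul_mem (M.inv_mem hd) h5
    rwa [mul_inv_rev, mul_assoc, inv_mul_cancel_left, hF.xU_inv (n 7 (by omega)), CharTwo.neg_eq,
      hF.xU_add (n 7 (by omega))] at this
  -- rule three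
  have R3 : ∀ d ∈ Δ, ∀ e ∈ Δ, d ^ 2 * e ∈ Δ ∧ d * e + d ^ 2 * e ∈ Par chevB2 M 5 := by
    intro d hd e he
    have hu1 := conjM 0 r0 6 7 (by omega) (by omega) 6 4 (by decide +kernel) (by decide +kernel) e e he
    have hu := conjM 1 r1 6 4 (by omega) (by omega) 5 3 (by decide +kernel) (by decide +kernel) e e hu1
    have c53 : Commute (xU chevB2 5 e) (xU chevB2 3 e) := by
      show _ = _
      rw [cw 3 5 (by omega) (by omega) (by decide) (by decide +kernel),
        show cwR chevB2 3 5 e e = [] by simp [cwR, show chevB2.commTerms 3 5 = [] by decide +kernel]]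
      simp [wU]
    rw [c53.eq] at hu
    have c7 : ∀ (r : ℕ), r = 3 ∨ r = 5 ∨ r = 6 ∨ r = 7 → ∀ a b : k, Commute (xU chevB2 7 a) (xU chevB2 r b) := by
      intro r hr a b
      show _ = _
      rcases hr with rfl | rfl | rfl | rfl
      · rw [cw 3 7 (by omega) (by omega) (by decide) (by decide +kernel),
          show cwR chevB2 3 7 b a = [] by simp [cwR, show chevB2.commTerms 3 7 = [] by decide +kernel]]
        simp [wU]
      · rw [cw 5 7 (by omega) (by omega) (by decide) (by decide +kernel),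
          show cwR chevB2 5 7 b a = [] by simp [cwR, show chevB2.commTerms 5 7 = [] by decide +kernel]]
        simp [wU]
      · exact t67 b a
      · rw [hF.xU_add (n 7 (by omega)), hF.xU_add (n 7 (by omega)), add_comm]
    have c65 : Commute (xU chevB2 6 d) (xU chevB2 5 e) := by
      show _ = _
      rw [cw 5 6 (by omega) (by omega) (by decide) (by decide +kernel)]
      simp [cwR, show chevB2.commTerms 5 6 = [(7, 2, 1, 1)] by decide +kernel, wU, CharTwo.two_eq_zero,
        hF.xU_zero (n 7 (by omega))]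
    have c55 : Commute (xU chevB2 5 (d * e)) (xU chevB2 5 e) := by
      show _ = _
      rw [hF.xU_add (n 5 (by omega)), hF.xU_add (n 5 (by omega)), add_comm]
    have e63 : xU chevB2 6 d * xU chevB2 3 e =
        xU chevB2 3 e * xU chevB2 6 d * (xU chevB2 5 (d * e) * xU chevB2 7 (d ^ 2 * e)) := by
      rw [cw 3 6 (by omega) (by omega) (by decide) (by decide +kernel)]
      simp [cwR, show chevB2.commTerms 3 6 = [(5, 1, 1, 1), (7, 1, 1, 2)] by decide +kernel, wU,
        CharTwo.neg_eq, mul_comm]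
    set x3 := xU chevB2 3 e
    set x5 := xU chevB2 5 e
    set x6 := xU chevB2 6 d
    set x7 := xU chevB2 7 d
    set W := xU chevB2 5 (d * e) * xU chevB2 7 (d ^ 2 * e)
    have cW7 : Commute W x7 := ((c7 5 (Or.inr (Or.inl rfl)) d (d * e)).symm).mul_left
      (c7 7 (Or.inr (Or.inr (Or.inr rfl))) (d ^ 2 * e) d)
    have cW5 : Commute W x5 := c55.mul_left (c7 5 (Or.inr (Or.inl rfl)) (d ^ 2 * e) e)
    have c73 : Commute x7 x3 := c7 3 (Or.inl rfl) d e
    have c75 : Commute x7 x5 := c7 5 (Or.inr (Or.inl rfl)) d e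
    have key : x6 * x7 * (x3 * x5) = x3 * x5 * (x6 * x7) * W := by
      calc x6 * x7 * (x3 * x5) = x6 * (x7 * x3) * x5 := by group
        _ = x6 * x3 * (x7 * x5) := by rw [c73.eq]; group
        _ = x3 * x6 * (W * x7) * x5 := by rw [e63]; group
        _ = x3 * x6 * x7 * (W * x5) := by rw [cW7.eq]; group
        _ = x3 * x6 * (x7 * x5) * W := by rw [cW5.eq]; group
        _ = x3 * (x6 * x5) * x7 * W := by rw [c75.eq]; group
        _ = _ := by rw [c65.eq]; group
    have h4 := M.mul_mem (show x6 * x7 ∈ M from hd) hu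
    rw [key, M.mul_mem_cancel_left (M.mul_mem hu hd)] at h4
    have h5 := conjM 1 r1 5 7 (by omega) (by omega) 6 7 (by decide +kernel) (by decide +kernel) _ _ h4
    have h6 := R1 _ _ h5
    refine ⟨h6, ?_⟩
    rw [← A6, mem_Par, ← hF.xU_add (n 6 (by omega))]
    have h7 := M.mul_mem h5 (M.inv_mem (show xU chevB2 6 (d ^ 2 * e) * xU chevB2 7 (d ^ 2 * e) ∈ M from h6))
    rw [mul_inv_rev, ← mul_assoc, mul_inv_cancel_right, hF.xU_inv (n 6 (by omega)), CharTwo.neg_eq] at h7
    exact h7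
  have hone : (1 : k) ∈ Δ := M.mul_mem (gen_one hF hM (n 6 (by omega))) (gen_one hF hM (n 7 (by omega)))
  have hadd : ∀ a ∈ Δ, ∀ b ∈ Δ, a + b ∈ Δ := fun a ha b hb => by
    show xU chevB2 6 (a + b) * xU chevB2 7 (a + b) ∈ M
    have := M.mul_mem (show xU chevB2 6 a * xU chevB2 7 a ∈ M from ha)
      (show xU chevB2 6 b * xU chevB2 7 b ∈ M from hb)
    rwa [show xU chevB2 6 a * xU chevB2 7 a * (xU chevB2 6 b * xU chevB2 7 b) =
      xU chevB2 6 a * (xU chevB2 7 a * xU chevB2 6 b) * xU chevB2 7 b by group, t67,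
      ← mul_assoc, hF.xU_add (n 6 (by omega)), mul_assoc, hF.xU_add (n 7 (by omega))] at this
  have hfin : Δ.Finite := by
    haveI : Finite Δ := Finite.of_injective (fun t : Δ => (⟨_, t.2⟩ : M)) fun a b h => by
      have h' : xU chevB2 6 a.1 * xU chevB2 7 a.1 = xU chevB2 6 b.1 * xU chevB2 7 b.1 := congrArg Subtype.val h
      refine Subtype.ext (lead_unique hF (K := 6) (n 6 (by omega)) (by decide) ?_ ?_ h') <;>
        exact xU_mem_rootClosure (n 7 (by omega)) (by decide) _
    exact Set.toFinite _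
  -- squares exhaust `Δ`
  have hmul : ∀ a ∈ Δ, ∀ b ∈ Δ, a * b ∈ Δ := by
    intro a ha b hb
    haveI := hfin.to_subtype
    have hinj : Function.Injective (fun x : Δ => (⟨x.1 ^ 2, (R2 _ x.2).1⟩ : Δ)) := fun x y h =>
      Subtype.ext (frobenius_inj k 2 (by simpa [frobenius_def] using congrArg Subtype.val h))
    obtain ⟨r, hr⟩ := (Finite.injective_iff_surjective.1 hinj) ⟨a, ha⟩
    rw [← show r.1 ^ 2 = a from congrArg Subtype.val hr]
    exact (R3 _ r.2 _ hb).1
  have hsub5 : ∀ a ∈ Δ, a ∈ Par chevB2 M 5 := by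
    intro a ha
    by_cases h : ∀ d ∈ Δ, d + d ^ 2 = 0
    · have h' := h a ha
      have : a * (1 + a) = 0 := by linear_combination h'
      rcases mul_eq_zero.1 this with h0 | h0
      · rw [h0]; exact Par_zero hF hM (n 5 (by omega))
      · rw [show a = 1 by rw [← CharTwo.neg_eq (1 : k)]; linear_combination h0]
        exact Par_one hF hM (n 5 (by omega))
    · push Not at h
      obtain ⟨d, hd, hu⟩ := h
      have hud : d + d ^ 2 ∈ Δ := hadd d hd _ (R2 d hd).1
      haveI := hfin.to_subtype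
      have hinj : Function.Injective (fun x : Δ => (⟨(d + d ^ 2) * x.1, hmul _ hud _ x.2⟩ : Δ)) := fun x y h =>
        Subtype.ext (mul_left_cancel₀ hu (congrArg Subtype.val h))
      obtain ⟨r, hr⟩ := (Finite.injective_iff_surjective.1 hinj) ⟨a, ha⟩
      rw [← show (d + d ^ 2) * r.1 = a from congrArg Subtype.val hr,
        show (d + d ^ 2) * r.1 = d * r.1 + d ^ 2 * r.1 by ring]
      exact (R3 d hd _ r.2).2
  have hsub4 : ∀ a ∈ Δ, a ∈ Par chevB2 M 4 := fun a ha => by
    have h6 : xU chevB2 6 a ∈ M := show a ∈ Par chevB2 M 6 from A6 ▸ hsub5 a ha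
    rw [← A7]
    exact (M.mul_mem_cancel_left h6).1 ha
  have h4Δ : ∀ a ∈ Par chevB2 M 4, a ∈ Δ := fun a ha => by
    refine R1 0 a ?_
    rw [hF.xU_zero (n 6 (by omega)), one_mul]
    exact show a ∈ Par chevB2 M 7 from A7 ▸ ha
  refine ⟨fun c d h => ?_, fun a ha b hb => hsub4 _ (hmul a (h4Δ a ha) b (h4Δ b hb))⟩
  have hd := hsub4 d (R1 c d h)
  have h7 : xU chevB2 7 d ∈ M := show d ∈ Par chevB2 M 7 from A7 ▸ hd
  exact ⟨A6 ▸ (M.mul_mem_cancel_right h7).1 h, hd⟩

end Two

theorem parField_B2 {p : ℕ} [Fact p.Prime] [CharP k p] [Finite M] : HasParField chevB2 M := by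
  obtain ⟨hls, hsl⟩ := B2_mixed hF hC hM
  have n4 : (4 : ℕ) < chevB2.nroots := by decide
  have n5 : (5 : ℕ) < chevB2.nroots := by decide
  have hmul : ∀ a ∈ Par chevB2 M 4, ∀ b ∈ Par chevB2 M 4, a * b ∈ Par chevB2 M 4 := by
    by_cases hp : p = 2
    · subst hp
      exact (B2_two hF hC hM).2
    · intro a ha b hb
      have hpr : p.Prime := Fact.out
      have h2 : 2 * (a * b) ∈ Par chevB2 M 4 := by
        rw [show 2 * (a * b) = (a + b) ^ 2 - a ^ 2 - b ^ 2 by ring]
        exact Par_sub hF hM n4 (Par_sub hF hM n4 (hsl _ (Par_add hF hM n5 (hls ha) (hls hb))) (hsl _ (hls ha)))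
          (hsl _ (hls hb))
      have hmuln : ∀ (m : ℕ) (x : k), x ∈ Par chevB2 M 4 → (m : k) * x ∈ Par chevB2 M 4 := fun m x hx => by
        induction m with
        | zero => rw [Nat.cast_zero, zero_mul]; exact Par_zero hF hM n4
        | succ m ih => rw [Nat.cast_succ, add_mul, one_mul]; exact Par_add hF hM n4 ih hx
      obtain ⟨m, hm⟩ := hpr.odd_of_ne_two hp
      have hk : ((m + 1 : ℕ) : k) * 2 = 1 := by
        rw [← Nat.cast_two, ← Nat.cast_mul, show (m + 1) * 2 = p + 1 by omega, Nat.cast_succ, CharP.cast_eq_zero,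
          zero_add]
      have := hmuln (m + 1) _ h2
      rwa [← mul_assoc, hk, one_mul] at this
  obtain ⟨S, hS, e⟩ := exists_subfield hF hM (Par_finite hF hM n4) (Par_one hF hM n4)
    (fun _ ha _ hb => Par_sub hF hM n4 ha hb) hmul
  have es := short_eq hF hM (p := p) hS e n5 hls hsl
  refine parField_of_simple hF hM hS fun i hi => ?_
  have : i < 2 := hi
  interval_cases i
  · rw [show chevB2.simple 0 = 5 by decide +kernel]; exact es
  · rw [show chevB2.simple 1 = 4 by decide +kernel]; exact e.symm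

theorem cen_fixed_B2 [Finite M] (hcert : Cert chevB2 (some (2, 6))) (hRat : Rat chevB2 φ M) :
    ∀ v ∈ M, v ∈ rootClosure chevB2 k (CenR chevB2 (some (2, 6)) k) → v ∈ fixG chevB2 φ := by
  intro v hvM hv
  by_cases hl0 : ((2 : ℕ) : k) = 0
  swap
  · exact cen_fixed_top hF hC hM hRat (fun l s e => by cases e; exact hl0) hvM hv
  haveI : CharP k 2 := by
    refine CharP.charP_iff_prime_eq_zero Nat.prime_two |>.2 hl0
  obtain ⟨c, d, rfl⟩ := cen_form hF hC hcert hl0 hv
  rw [show chevB2.nroots - 1 = 7 by decide] at hvM ⊢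
  obtain ⟨hc, hd⟩ := (B2_two hF hC hM).1 c d hvM
  exact Subgroup.mul_mem _ (xU_mem_fixG hF (by decide) (hRat 5 (by decide) c hc))
    (xU_mem_fixG hF (by decide) (hRat 4 (by decide) d hd))

end CfsgLib.Chev.Over
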