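/-
The parameters for types G2 and F4.
-/
import Cfsg.Agent.Lib.Chev.Overgroup.Types
import Cfsg.Agent.Lib.Chev.SL2

set_option autoImplicit false
set_option maxRecDepth 20000
set_option linter.unusedSectionVars false

namespace CfsgLib.Chev.Over

open Cfsg.Lie CfsgLib.Chev.FixedPoints

universe v

variable {k : Type v} [Field k] {φ : k →+* k} {co : ℕ → ℕ → ℤ}

theorem parField_F4 (p : ℕ) [Fact p.Prime] [CharP k p] (hF : Facts chevF4 co) (hC : CommF.{v} chevF4) {M : Subgroup (GL chevF4.Idx k)} [Finite M]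
    (hM : Ov chevF4 φ M) : HasParField chevF4 M := by
  have r2 : (2 : ℕ) < chevF4.rank := by decide
  have r3 : (3 : ℕ) < chevF4.rank := by decide
  have r1 : (1 : ℕ) < chevF4.rank := by decide
  have r0 : (0 : ℕ) < chevF4.rank := by decide
  have e23 := Par_edge hF hM r2 r3 (by decide +kernel) (by decide +kernel)
  have e01 := Par_edge hF hM r0 r1 (by decide +kernel) (by decide +kernel)
  have hK : Par chevF4 M (chevF4.reflectRoot 2 (chevF4.simple 3)) = Par chevF4 M (chevF4.simple 2) :=
    (Par_of_refl hF hM r2 (hF.simple_lt' r3) rfl).trans e23.symm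
  obtain ⟨S, hS, e⟩ := exists_field_of_pair hF hC hM (r := chevF4.simple 2) (s := chevF4.simple 3)
    (K := chevF4.reflectRoot 2 (chevF4.simple 3)) (C := (chevF4.commTerms (chevF4.simple 2) (chevF4.simple 3)).head!.2.1)
    (hF.simple_lt' r2) (hF.simple_lt' r3) (by decide +kernel) (by decide +kernel) (by decide +kernel)
    (by decide +kernel) e23.symm hK
  obtain ⟨h1, h2⟩ := Par_mixed hF hM hC (l := 2) (s := 1) (C := 1) (C' := -1) (K := 28) (K' := 30) r2 r1
    (by decide) (by decide +kernel) (by decide +kernel) (by decide +kernel) (Or.inl rfl) (Or.inr rfl)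
  have es := short_eq hF hM (p := p) hS e (hF.simple_lt' r1) h1 h2
  refine parField_of_simple hF hM hS fun i hi => ?_
  have : i < 4 := hi
  interval_cases i
  · rw [e01, es]
  · exact es
  · exact e.symm
  · rw [← e23, e]

theorem cen_fixed_F4 (hF : Facts chevF4 co) (hC : CommF.{v} chevF4) {M : Subgroup (GL chevF4.Idx k)}
    (hM : Ov chevF4 φ M) (hcert : Cert chevF4 (some (2, 44))) (hRat : Rat chevF4 φ M) :
    ∀ v ∈ M, v ∈ rootClosure chevF4 k (CenR chevF4 (some (2, 44)) k) → v ∈ fixG chevF4 φ :=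
  fun _ hvM hv => cen_fixed_pair hF hC hM hcert hRat (b := 15) (μ := 42) (C := 1) (by decide +kernel)
    (by decide +kernel) (by decide +kernel) (by decide +kernel) (by decide +kernel) (Or.inl rfl) hvM hv

theorem cen_fixed_G2 (hF : Facts chevG2 co) (hC : CommF.{v} chevG2) {M : Subgroup (GL chevG2.Idx k)}
    (hM : Ov chevG2 φ M) (hcert : Cert chevG2 (some (3, 9))) (hRat : Rat chevG2 φ M) :
    ∀ v ∈ M, v ∈ rootClosure chevG2 k (CenR chevG2 (some (3, 9)) k) → v ∈ fixG chevG2 φ :=
  fun _ hvM hv => cen_fixed_pair hF hC hM hcert hRat (b := 5) (μ := 10) (C := 1) (by decide +kernel)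
    (by decide +kernel) (by decide +kernel) (by decide +kernel) (by decide +kernel) (Or.inl rfl) hvM hv

theorem parField_G2 (p : ℕ) [Fact p.Prime] [CharP k p] (hF : Facts chevG2 co) (hC : CommF.{v} chevG2) {M : Subgroup (GL chevG2.Idx k)} [Finite M]
    (hM : Ov chevG2 φ M) : HasParField chevG2 M := by
  have n5 : (5 : ℕ) < chevG2.nroots := by decide
  have n6 : (6 : ℕ) < chevG2.nroots := by decide
  have n7 : (7 : ℕ) < chevG2.nroots := by decide
  have n8 : (8 : ℕ) < chevG2.nroots := by decide
  have n9 : (9 : ℕ) < chevG2.nroots := by decide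
  have n10 : (10 : ℕ) < chevG2.nroots := by decide
  have n11 : (11 : ℕ) < chevG2.nroots := by decide
  have r0 : (0 : ℕ) < chevG2.rank := by decide
  have r1 : (1 : ℕ) < chevG2.rank := by decide
  have a10 : Par chevG2 M 10 = Par chevG2 M 6 := Par_of_refl hF hM r0 n6 (by decide +kernel)
  have a11 : Par chevG2 M 11 = Par chevG2 M 6 := (Par_of_refl hF hM r1 n10 (by decide +kernel)).trans a10
  have a5 : Par chevG2 M 5 = Par chevG2 M 6 := Par_of_refl hF hM r1 n6 (by decide +kernel)
  have a8 : Par chevG2 M 8 = Par chevG2 M 7 := Par_of_refl hF hM r1 n7 (by decide +kernel)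
  have a9 : Par chevG2 M 9 = Par chevG2 M 7 := (Par_of_refl hF hM r0 n8 (by decide +kernel)).trans a8
  obtain ⟨S, hS, e⟩ := exists_field_of_pair hF hC hM (r := 6) (s := 10) (K := 11) (C := 1)
    n6 n10 (by decide) (by decide +kernel) (by decide +kernel) (Or.inl rfl) a10 a11
  have mem : ∀ {t : k}, t ∈ S ↔ xU chevG2 6 t ∈ M := fun {t} => Set.ext_iff.1 e t
  -- long torus elements
  have h1 : ∀ u ∈ S, u ∈ Par chevG2 M 7 := by
    intro u hu
    by_cases hu0 : u = 0
    · rw [hu0]; exact Par_zero hF hM n7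
    have hn : ∀ a ∈ S, a ≠ 0 → nU chevG2 6 a ∈ M := fun a ha _ => by
      have h5 : xU chevG2 5 (-a⁻¹) ∈ M := by
        show -a⁻¹ ∈ Par chevG2 M 5
        rw [a5, ← e]
        exact S.neg_mem (S.inv_mem ha)
      rw [nU, show chevG2.neg 6 = 5 by decide +kernel]
      exact M.mul_mem (M.mul_mem (mem.1 ha) h5) (mem.1 ha)
    have hh : hU chevG2 6 u⁻¹ ∈ M :=
      M.mul_mem (hn _ (S.inv_mem hu) (inv_ne_zero hu0)) (hn _ (S.neg_mem S.one_mem) (by norm_num))
    have h := hF.hU_conj_xU (F := k) n6 n7 (Units.mk0 u⁻¹ (inv_ne_zero hu0)) 1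
    rw [show prE chevG2 6 7 = -1 by decide +kernel] at h
    simp only [Units.val_mk0, zpow_neg, zpow_one, Units.val_inv_eq_inv_val, inv_inv, mul_one] at h
    show xU chevG2 7 u ∈ M
    rw [← h]
    exact M.mul_mem (M.mul_mem hh (gen_one hF hM n7)) (M.inv_mem hh)
  -- long roots in a product
  have long : ∀ {a b : k}, xU chevG2 10 a * xU chevG2 11 b ∈ M → a ∈ S ∧ b ∈ S := by
    intro a b h
    have h2 := M.mul_mem (gen_one hF hM n6) h
    have e1 : xU chevG2 6 (1 : k) * xU chevG2 11 b = xU chevG2 11 b * xU chevG2 6 (1 : k) := by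
      rw [hF.xU_comm hC n11 n6 (by decide) (by decide +kernel),
        show cwR chevG2 11 6 b (1 : k) = [] by simp [cwR, show chevG2.commTerms 11 6 = [] by decide +kernel]]
      simp [wU]
    have e2 : xU chevG2 10 a * xU chevG2 6 (1 : k) =
        xU chevG2 6 (1 : k) * xU chevG2 10 a * xU chevG2 11 (-a) := by
      rw [hF.xU_comm hC n6 n10 (by decide) (by decide +kernel)]
      simp [cwR, show chevG2.commTerms 6 10 = [(11, 1, 1, 1)] by decide +kernel, wU]
    have h3 : xU chevG2 11 (-a) ∈ M := by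
      have h4 := M.mul_mem h (gen_one hF hM n6)
      have e3 : xU chevG2 10 a * xU chevG2 11 b * xU chevG2 6 (1 : k) =
          xU chevG2 6 (1 : k) * (xU chevG2 10 a * xU chevG2 11 b) * xU chevG2 11 (-a) := by
        rw [mul_assoc, ← e1, ← mul_assoc, e2, mul_assoc, hF.xU_add n11, add_comm (-a),
          ← hF.xU_add n11]
        group
      rw [e3, M.mul_mem_cancel_left h2] at h4
      exact h4
    have ha : a ∈ S := by
      have : -a ∈ S := by rw [← SetLike.mem_coe, e, ← a11]; exact h3
      simpa using S.neg_mem this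
    have h5 : xU chevG2 10 a ∈ M := by
      show a ∈ Par chevG2 M 10
      rw [a10, ← e]; exact ha
    refine ⟨ha, ?_⟩
    rw [← SetLike.mem_coe, e, ← a11]
    exact (M.mul_mem_cancel_left h5).1 h
  have h2 : ∀ c ∈ Par chevG2 M 7, c ∈ S := by
    intro c hc
    by_cases hp : p = 3
    · subst hp
      have h := comm_word_mem hF hM hC n6 n7 (by decide) (by decide +kernel)
        (Par_neg hF hM n6 (Par_one hF hM n6)) hc
      simp only [cwR, show chevG2.commTerms 6 7 = [(8, 1, 1, 1), (9, 1, 1, 2), (10, -1, 1, 3), (11, -2, 2, 3)] by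
        decide +kernel, List.map_cons, List.map_nil, wU, List.prod_cons, List.prod_nil, mul_one, one_pow,
        _root_.neg_neg, pow_one, Int.cast_one, Int.cast_neg, one_mul, neg_mul, Int.cast_ofNat] at h
      have h8 : xU chevG2 8 c ∈ M := show c ∈ Par chevG2 M 8 from a8 ▸ hc
      rw [M.mul_mem_cancel_left h8] at h
      have h' := M.mul_mem (gen_one hF hM n6) h
      have h'' := M.mul_mem h (gen_one hF hM n6)
      have c9 : xU chevG2 9 (c ^ 2) * xU chevG2 6 (1 : k) = xU chevG2 6 (1 : k) * xU chevG2 9 (c ^ 2) := by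
        rw [hF.xU_comm hC n6 n9 (by decide) (by decide +kernel),
          show cwR chevG2 6 9 (1 : k) (c ^ 2) = [] by
            simp [cwR, show chevG2.commTerms 6 9 = [] by decide +kernel]]
        simp [wU]
      have c11 : ∀ b : k, xU chevG2 11 b * xU chevG2 6 (1 : k) = xU chevG2 6 (1 : k) * xU chevG2 11 b := fun b => by
        rw [hF.xU_comm hC n6 n11 (by decide) (by decide +kernel),
          show cwR chevG2 6 11 (1 : k) b = [] by
            simp [cwR, show chevG2.commTerms 6 11 = [] by decide +kernel]]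
        simp [wU]
      have c10 : ∀ a : k, xU chevG2 10 a * xU chevG2 6 (1 : k) =
          xU chevG2 6 (1 : k) * xU chevG2 10 a * xU chevG2 11 (-a) := fun a => by
        rw [hF.xU_comm hC n6 n10 (by decide) (by decide +kernel)]
        simp [cwR, show chevG2.commTerms 6 10 = [(11, 1, 1, 1)] by decide +kernel, wU]
      have e3 : ∀ a b : k, xU chevG2 9 (c ^ 2) * (xU chevG2 10 a * xU chevG2 11 b) * xU chevG2 6 (1 : k) =
          xU chevG2 6 (1 : k) * (xU chevG2 9 (c ^ 2) * (xU chevG2 10 a * xU chevG2 11 b)) * xU chevG2 11 (-a) := by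
        intro a b
        simp only [mul_assoc]
        rw [c11, ← mul_assoc (xU chevG2 10 a), c10, mul_assoc, mul_assoc, hF.xU_add n11, add_comm (-a),
          ← hF.xU_add n11, ← mul_assoc (xU chevG2 9 (c ^ 2)), c9]
        group
      rw [e3, M.mul_mem_cancel_left h'] at h''
      rw [_root_.neg_neg] at h''
      have h3S : c ^ 3 ∈ S := by rw [← SetLike.mem_coe, e, ← a11]; exact h''
      haveI : CharP S 3 := ⟨fun n => by
        rw [← CharP.cast_eq_zero_iff k 3 n]
        exact ⟨fun h => by simpa using congrArg Subtype.val h, fun h => Subtype.ext (by simpa using h)⟩⟩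
      obtain ⟨q, hq⟩ := Finite.injective_iff_surjective.1 (frobenius_inj S 3) ⟨c ^ 3, h3S⟩
      have hq' : (q : k) ^ 3 = c ^ 3 := by simpa [frobenius_def] using congrArg Subtype.val hq
      have : (q : k) = c := frobenius_inj k 3 (by simpa [frobenius_def] using hq')
      exact this ▸ q.2
    · have h := comm_word_mem hF hM hC n7 n8 (by decide) (by decide +kernel) (Par_neg hF hM n7 hc)
        (Par_one hF hM n8)
      simp only [cwR, show chevG2.commTerms 7 8 = [(9, -2, 1, 1), (10, -3, 2, 1), (11, 3, 1, 2)] by decide +kernel,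
        List.map_cons, List.map_nil, wU, List.prod_cons, List.prod_nil, mul_one, one_pow, _root_.neg_neg,
        pow_one, Int.cast_neg, Int.cast_ofNat, neg_mul] at h
      have h9 : xU chevG2 9 (-(2 * c)) ∈ M := by
        show -(2 * c) ∈ Par chevG2 M 9
        rw [a9, two_mul]
        exact Par_neg hF hM n7 (Par_add hF hM n7 hc hc)
      rw [M.mul_mem_cancel_left h9] at h
      have h3c : 3 * c ∈ S := (long h).2
      have h3 : (3 : k) ≠ 0 := fun h0 => hp ((Nat.prime_dvd_prime_iff_eq Fact.out Nat.prime_three).1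
        ((CharP.cast_eq_zero_iff k p 3).1 (by exact_mod_cast h0)))
      have h3S : (3 : k) ∈ S := by
        rw [show (3 : k) = 1 + 1 + 1 by norm_num]
        exact S.add_mem (S.add_mem S.one_mem S.one_mem) S.one_mem
      have := S.mul_mem (S.inv_mem h3S) h3c
      rwa [inv_mul_cancel_left₀ h3] at this
  refine parField_of_simple hF hM hS fun i hi => ?_
  have : i < 2 := hi
  interval_cases i
  · rw [show chevG2.simple 0 = 7 by decide +kernel]
    exact Set.Subset.antisymm h2 h1
  · rw [show chevG2.simple 1 = 6 by decide +kernel]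
    exact e.symm

end CfsgLib.Chev.Over
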