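/-
Finite overgroups of the root elements with fixed parameters, for the seven data.
-/
import Cfsg.Agent.Lib.Chev.Overgroup.Two
import Cfsg.Agent.Lib.Chev.Overgroup.Certs
import Cfsg.Agent.Lib.Chev.Overgroup.TypesG2F4
import Cfsg.Agent.Lib.Chev.Overgroup.TypesB2

set_option autoImplicit false
set_option maxRecDepth 20000
set_option linter.unusedSectionVars false
set_option linter.style.haveILetI false

namespace CfsgLib.Chev.Over

open Cfsg.Lie CfsgLib.Chev.FixedPoints

universe v

variable {k : Type v} [Field k]

/-- The parameters of the root elements in a finite overgroup form a subfield. -/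
theorem hasParField {D : ChevalleyDatum}
    (hD : D ∈ [chevG2, chevB2, chevD4, chevF4, chevE6, chevE7, chevE8]) (p : ℕ) [Fact p.Prime] [CharP k p]
    {φ : k →+* k} {M : Subgroup (GL D.Idx k)} [Finite M] (hM : Ov D φ M) : HasParField D M := by
  obtain ⟨co, hF⟩ := (good_of_mem.{v} hD).facts
  have hC := (good_of_mem.{v} hD).comm
  simp only [List.mem_cons, List.not_mem_nil, or_false] at hD
  rcases hD with rfl | rfl | rfl | rfl | rfl | rfl | rfl
  · exact parField_G2 p hF hC hM
  · exact parField_B2 hF hC hM (p := p)
  · exact parField_laced hF hC hM id (by decide +kernel) (i := 0) (j := 1)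
      (K := chevD4.reflectRoot 0 (chevD4.simple 1))
      (C := (chevD4.commTerms (chevD4.simple 0) (chevD4.simple 1)).head!.2.1)
      (by decide) (by decide) (by decide) rfl (by decide +kernel) (by decide +kernel)
  · exact parField_F4 p hF hC hM
  · exact parField_laced hF hC hM (fun i => if i = 1 then 100 else i) (by decide +kernel) (i := 0) (j := 2)
      (K := chevE6.reflectRoot 0 (chevE6.simple 2))
      (C := (chevE6.commTerms (chevE6.simple 0) (chevE6.simple 2)).head!.2.1)
      (by decide) (by decide) (by decide) rfl (by decide +kernel) (by decide +kernel)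
  · exact parField_laced hF hC hM (fun i => if i = 1 then 100 else i) (by decide +kernel) (i := 0) (j := 2)
      (K := chevE7.reflectRoot 0 (chevE7.simple 2))
      (C := (chevE7.commTerms (chevE7.simple 0) (chevE7.simple 2)).head!.2.1)
      (by decide) (by decide) (by decide) rfl (by decide +kernel) (by decide +kernel)
  · exact parField_laced hF hC hM (fun i => if i = 1 then 100 else i) (by decide +kernel) (i := 0) (j := 2)
      (K := chevE8.reflectRoot 0 (chevE8.simple 2))
      (C := (chevE8.commTerms (chevE8.simple 0) (chevE8.simple 2)).head!.2.1)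
      (by decide) (by decide) (by decide) rfl (by decide +kernel) (by decide +kernel)

/-- With only fixed parameters a finite overgroup consists of fixed elements. -/
theorem fixed_of_rat {D : ChevalleyDatum}
    (hD : D ∈ [chevG2, chevB2, chevD4, chevF4, chevE6, chevE7, chevE8]) (p : ℕ) [Fact p.Prime] [CharP k p]
    {φ : k →+* k} {M : Subgroup (GL D.Idx k)} [Finite M] (hM : Ov D φ M) (hRat : Rat D φ M) :
    M ≤ fixG D φ := by
  obtain ⟨co, hF, hP⟩ := Radical.facts_pairCert hD
  have hC := (good_of_mem.{v} hD).comm
  obtain ⟨sp, hcert, hT, hZ⟩ : ∃ sp, Cert D sp ∧ TopCert D ∧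
      ∀ v ∈ M, v ∈ rootClosure D k (CenR D sp k) → v ∈ fixG D φ := by
    simp only [List.mem_cons, List.not_mem_nil, or_false] at hD
    have hnone : ∀ l s : ℕ, (none : Option (ℕ × ℕ)) = some (l, s) → (l : k) ≠ 0 := fun _ _ h => by simp at h
    rcases hD with rfl | rfl | rfl | rfl | rfl | rfl | rfl
    · exact ⟨_, cert_G2, top_G2, cen_fixed_G2 hF hC hM cert_G2 hRat⟩
    · exact ⟨_, cert_B2, top_B2, cen_fixed_B2 hF hC hM cert_B2 hRat⟩
    · exact ⟨none, cert_D4, top_D4, fun v => cen_fixed_top hF hC hM hRat hnone⟩
    · exact ⟨_, cert_F4, top_F4, cen_fixed_F4 hF hC hM cert_F4 hRat⟩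
    · exact ⟨none, cert_E6, top_E6, fun v => cen_fixed_top hF hC hM hRat hnone⟩
    · exact ⟨none, cert_E7, top_E7, fun v => cen_fixed_top hF hC hM hRat hnone⟩
    · exact ⟨none, cert_E8, top_E8, fun v => cen_fixed_top hF hC hM hRat hnone⟩
  intro g hg
  by_cases hp : p = 2
  · subst hp
    exact fixed_two hF hC hM hcert hT hP hZ hg
  · exact fixed_odd hF hC hM hcert hT hP hZ (p := p) hp hg

end CfsgLib.Chev.Over
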