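/-
The two subfield statements: finite overgroups and maximality.
-/
import Cfsg.Agent.Lib.Chev.Overgroup.Main
import Cfsg.Agent.Lib.Chev.Overgroup.FrobField
import Cfsg.Agent.Lib.Known.OddInvol.Moves

set_option autoImplicit false
set_option linter.unusedSectionVars false
set_option linter.style.haveILetI false

namespace CfsgLib.Chev.Over

open Cfsg.Lie CfsgLib.Chev.FixedPoints

universe v

variable {k : Type v} [Field k] {p : ℕ} [Fact p.Prime] [CharP k p] {D : ChevalleyDatum}

theorem xU_entries {co : ℕ → ℕ → ℤ} (hF : Facts D co) {s : ℕ} {t : k} {g : GL D.Idx k}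
    (h : (g : Matrix D.Idx D.Idx k) = D.x k s t) : g = 1 ∨ (s < D.nroots ∧ g = xU D s t) := by
  by_cases hs : s < D.nroots
  · exact Or.inr ⟨hs, Units.ext (h.trans (hF.xU_val hs t).symm)⟩
  · exact Or.inl (Units.ext (by rw [h, ChevalleyDatum.x, dif_neg hs]; rfl))

theorem entries_of_fixG {n : ℕ} {g : GL D.Idx k} (hg : g ∈ fixG D (iterateFrobenius k p n)) (i j : D.Idx) :
    ((g : Matrix D.Idx D.Idx k) i j) ^ p ^ n = (g : Matrix D.Idx D.Idx k) i j := by
  have h := congrArg (fun g : GL D.Idx k => (g : Matrix D.Idx D.Idx k) i j) (mem_fixG.1 hg)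
  simpa [gMap, iterateFrobenius_def] using h

theorem fixG_of_entries {n : ℕ} {g : GL D.Idx k}
    (hg : ∀ i j : D.Idx, ((g : Matrix D.Idx D.Idx k) i j) ^ p ^ n = (g : Matrix D.Idx D.Idx k) i j) :
    g ∈ fixG D (iterateFrobenius k p n) := by
  rw [mem_fixG]
  refine Units.ext (Matrix.ext fun i j => ?_)
  simpa [gMap, iterateFrobenius_def] using hg i j

theorem finite_overgroups [IsAlgClosed k]
    (hD : D ∈ [chevG2, chevB2, chevD4, chevF4, chevE6, chevE7, chevE8]) (a : ℕ) (ha : 1 ≤ a)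
    (M : Subgroup (GL D.Idx k)) (hMfin : Finite M) (hMG : M ≤ D.group k)
    (hLM : Subgroup.closure {g : GL D.Idx k | ∃ (s : ℕ) (t : k),
      t ^ (p ^ a) = t ∧ (g : Matrix D.Idx D.Idx k) = D.x k s t} ≤ M) :
    ∃ r : ℕ, 1 ≤ r ∧ Subgroup.closure {g : GL D.Idx k | ∃ (s : ℕ) (t : k),
        t ^ ((p ^ a) ^ r) = t ∧ (g : Matrix D.Idx D.Idx k) = D.x k s t} ≤ M ∧
      ∀ g ∈ M, ∀ i j : D.Idx,
        ((g : Matrix D.Idx D.Idx k) i j) ^ ((p ^ a) ^ r) = (g : Matrix D.Idx D.Idx k) i j := by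
  obtain ⟨co, hF⟩ := (good_of_mem.{v} hD).facts
  haveI := hMfin
  have hov : Ov D (iterateFrobenius k p a) M := ⟨hMG, fun r hr t ht =>
    hLM (Subgroup.subset_closure ⟨r, t, by rwa [iterateFrobenius_def] at ht, hF.xU_val hr t⟩)⟩
  obtain ⟨S, hS, hPar⟩ := hasParField hD p hov
  haveI := hS
  have n0 : D.simple 0 < D.nroots := hF.simple_lt' hF.rank_pos
  have hle : frobFix k p a ≤ S := fun x hx => by
    rw [← SetLike.mem_coe, ← hPar _ n0]
    exact hov.gen _ n0 x (by rw [iterateFrobenius_def]; exact mem_frobFix.1 hx)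
  obtain ⟨r, hr, hcard⟩ := card_eq_pow hle
  rw [card_frobFix_of_isAlgClosed (by omega : a ≠ 0), ← pow_mul] at hcard
  have har : a * r ≠ 0 := Nat.mul_ne_zero (by omega) (by omega)
  have hSeq := eq_frobFix_of_card har hcard
  have hgen : ∀ s < D.nroots, ∀ t : k, t ^ p ^ (a * r) = t ↔ xU D s t ∈ M := fun s hs t => by
    rw [← mem_frobFix, ← hSeq, ← SetLike.mem_coe, ← hPar s hs, mem_Par]
  refine ⟨r, hr, (Subgroup.closure_le _).2 ?_, ?_⟩
  · rintro g ⟨s, t, ht, hg⟩
    rcases xU_entries hF hg with rfl | ⟨hs, rfl⟩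
    · exact M.one_mem
    · exact (hgen s hs t).1 (by rwa [pow_mul])
  · have hov' : Ov D (iterateFrobenius k p (a * r)) M := ⟨hMG, fun s hs t ht =>
      (hgen s hs t).1 (by rwa [iterateFrobenius_def] at ht)⟩
    have hRat : Rat D (iterateFrobenius k p (a * r)) M := fun s hs t ht => by
      rw [iterateFrobenius_def]; exact (hgen s hs t).2 ht
    intro g hg i j
    rw [← pow_mul]
    exact entries_of_fixG (fixed_of_rat hD p hov' hRat hg) i j

theorem subfield_maximal [Fintype k]
    (hD : D ∈ [chevG2, chevB2, chevD4, chevF4, chevE6, chevE7, chevE8]) (a r : ℕ) (ha : 1 ≤ a)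
    (hr : r.Prime) (hK : Fintype.card k = (p ^ a) ^ r) (M : Subgroup (GL D.Idx k))
    (hM : ∀ g : GL D.Idx k, g ∈ M ↔ g ∈ D.group k ∧
      ∀ i j : D.Idx, ((g : Matrix D.Idx D.Idx k) i j) ^ (p ^ a) = (g : Matrix D.Idx D.Idx k) i j) :
    M ≠ D.group k ∧ ∀ H : Subgroup (GL D.Idx k), M ≤ H → H ≤ D.group k → H = M ∨ H = D.group k := by
  obtain ⟨co, hF⟩ := (good_of_mem.{v} hD).facts
  have n0 : D.simple 0 < D.nroots := hF.simple_lt' hF.rank_pos
  have hcardF : Nat.card (frobFix k p a) = p ^ a := card_frobFix_of_card (by omega) hr.ne_zero hK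
  have hq : 1 < p ^ a := Nat.one_lt_pow (by omega) (Fact.out : p.Prime).one_lt
  have hfix : ∀ s < D.nroots, ∀ t : k, t ∈ frobFix k p a → xU D s t ∈ M := fun s hs t ht =>
    (hM _).2 ⟨OddInvol.xU_mem_group hF hs t, entries_of_fixG (xU_mem_fixG hF hs
      (by rw [iterateFrobenius_def]; exact mem_frobFix.1 ht))⟩
  constructor
  · intro e
    obtain ⟨t, ht⟩ : ∃ t : k, t ∉ frobFix k p a := by
      by_contra! h
      have : Nat.card (frobFix k p a) = Nat.card k :=
        Nat.card_congr (Equiv.subtypeUnivEquiv h)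
      rw [hcardF, Nat.card_eq_fintype_card, hK] at this
      have h1 := Nat.pow_lt_pow_right hq hr.one_lt
      rw [pow_one] at h1
      omega
    have hx : xU D (D.simple 0) t ∈ M := e ▸ OddInvol.xU_mem_group hF n0 t
    refine ht (mem_frobFix.2 ?_)
    have := fix_of_xU hF n0 (fixG_of_entries (p := p) ((hM _).1 hx).2)
    rwa [iterateFrobenius_def] at this
  · intro H hMH hHG
    have hov : Ov D (iterateFrobenius k p a) H := ⟨hHG, fun s hs t ht =>
      hMH (hfix s hs t (mem_frobFix.2 (by rwa [iterateFrobenius_def] at ht)))⟩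
    obtain ⟨S, hS, hPar⟩ := hasParField hD p hov
    haveI := hS
    have hle : frobFix k p a ≤ S := fun x hx => by
      rw [← SetLike.mem_coe, ← hPar _ n0]
      exact hMH (hfix _ n0 x hx)
    obtain ⟨m, -, hcard⟩ := card_eq_pow hle
    obtain ⟨l, -, hl⟩ := card_eq_pow (le_top : S ≤ ⊤)
    rw [hcardF] at hcard
    rw [hcard, ← pow_mul, Nat.card_congr (Equiv.subtypeUnivEquiv fun x : k => Subfield.mem_top x),
      Nat.card_eq_fintype_card, hK] at hl
    have hml : m ∣ r := ⟨l, Nat.pow_right_injective hq hl⟩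
    rcases hr.eq_one_or_self_of_dvd m hml with rfl | rfl
    · left
      rw [pow_one] at hcard
      have hSeq := eq_frobFix_of_card (by omega : a ≠ 0) hcard
      have hRat : Rat D (iterateFrobenius k p a) H := fun s hs t ht => by
        rw [iterateFrobenius_def, ← mem_frobFix, ← hSeq, ← SetLike.mem_coe, ← hPar s hs]
        exact ht
      refine le_antisymm (fun g hg => (hM g).2 ⟨hHG hg, ?_⟩) hMH
      exact entries_of_fixG (fixed_of_rat hD p hov hRat hg)
    · right
      have htop : ∀ s < D.nroots, ∀ t : k, xU D s t ∈ H := by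
        have hS' : (S : Set k) = Set.univ := by
          refine Set.eq_of_subset_of_ncard_le (Set.subset_univ _) ?_ (Set.toFinite _)
          rw [Set.ncard_univ, ← Nat.card_coe_set_eq, Nat.card_eq_fintype_card, hK, ← hcard]
          exact le_rfl
        exact fun s hs t => mem_Par.1 (by rw [hPar s hs, hS']; trivial)
      refine le_antisymm hHG ?_
      rw [hF.group_eq, rootClosure, Subgroup.closure_le]
      rintro g ⟨s, t, hs, -, rfl⟩
      exact htop s hs t

end CfsgLib.Chev.Over
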